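import Cfsg.Agent.Lib.Blocks.EqualDegree.DefectZero
import Cfsg.Agent.Lib.BlocksNormal.Deflate
import Cfsg.Agent.Lib.ModRep.Augmentation

/-!
# Blocks with one degree over a normal `p`-subgroup

Let `N ≤ D` be normal subgroups, `D` a `p`-group, and let all characters of the block `B` trivial
on `N` have one degree, those trivial on `D` having defect zero in `G ⧸ D`.

* `exists_central_family`: modulo `N`, every element of the block in the kernel of `G → G ⧸ D` is
  a sum `∑ z a` with `z` central modulo `N` and in that kernel.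
-/

set_option autoImplicit false
set_option linter.unusedSectionVars false
set_option linter.style.haveILetI false
set_option maxHeartbeats 1000000

namespace Cfsg.Agent.EqualDegree

open Cfsg Cfsg.Agent.Blocks Cfsg.Agent.BrauerPairs Cfsg.Agent.Star

variable {G : Type*} [Group G] [Finite G] {p : ℕ} [Fact p.Prime] {M : Ideal AlgInt}
  (hM : IsPModular p M)

/-- The block idempotent in the local group algebra. -/
noncomputable def bL {B : Set (IrrCharacter G)} (hB : IsPBlock M B) : Loc hM G :=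
  MonoidAlgebra.ofCoeff (Finsupp.equivFunOnFinite.symm fun g =>
    (⟨blockCoeff B g, Blocks.memR_blockCoeff hM hB g⟩ : locRing hM))

theorem coeff_bL {B : Set (IrrCharacter G)} (hB : IsPBlock M B) (g : G) :
    (((bL hM hB).coeff g : locRing hM) : ℂ) = blockCoeff B g := by simp [bL]

theorem rd_bL {B : Set (IrrCharacter G)} (hB : IsPBlock M B) : rd hM (bL hM hB) = blk M B := by
  ext g
  rw [coeff_rd, coeff_bL, blk, coeff_red]

theorem bL_mul_self {B : Set (IrrCharacter G)} (hB : IsPBlock M B) :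
    bL hM hB * bL hM hB = bL hM hB := by
  classical
  have := Fintype.ofFinite G
  have hconv : conv (blockCoeff B) (blockCoeff B) = blockCoeff B := by
    rw [blockCoeff_eq_ofOmega, ← ofOmega_mul, blockInd_mul_self]
  refine MonoidAlgebra.coeff_injective (Finsupp.ext fun g => Subtype.ext ?_)
  rw [coeff_mul_eq_sum, coeff_bL, AddSubmonoidClass.coe_finsetSum]
  simp only [Subring.coe_mul, coeff_bL]
  rw [← conv_eq_sum, hconv]

theorem el_mul_bL {B : Set (IrrCharacter G)} (hB : IsPBlock M B) (g : G) :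
    el hM g * bL hM hB = bL hM hB * el hM g := by
  refine (el_commute hM (u := g) ?_).eq
  intro u _
  ext x
  rw [coeff_cj, coeff_bL, coeff_bL]
  simpa [mul_assoc] using Blocks.isClassFunction_blockCoeff B x u⁻¹

theorem trL_bL {B : Set (IrrCharacter G)} (hB : IsPBlock M B) (χ : IrrCharacter G) :
    (χ ∈ B → trL hM (χ : G → ℂ) (bL hM hB) = (charDegree (χ : G → ℂ) : ℂ)) ∧
    (χ ∉ B → trL hM (χ : G → ℂ) (bL hM hB) = 0) := by
  have := Fintype.ofFinite G
  have h : trL hM (χ : G → ℂ) (bL hM hB) =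
      (χ : G → ℂ) 1 * omega (χ : G → ℂ) (blockCoeff B) := by
    rw [trL, tr_def, omega_eq_sum, mul_div_cancel₀ _ (irr_one_ne_zero χ)]
    simp only [coeff_inc, coeff_bL]
  rw [h, blockCoeff_eq_ofOmega, omega_ofOmega, charDegree_cast]
  exact ⟨fun hχ => by rw [blockInd_of_mem hχ, mul_one],
    fun hχ => by rw [blockInd_of_notMem hχ, mul_zero]⟩

theorem trL_sum {ι : Type*} (χ : G → ℂ) (s : Finset ι) (f : ι → Loc hM G) :
    trL hM χ (∑ i ∈ s, f i) = ∑ i ∈ s, trL hM χ (f i) :=
  map_sum (AddMonoidHom.mk' (trL hM χ) (trL_add hM χ)) f s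

theorem trL_sub (χ : G → ℂ) (a b : Loc hM G) : trL hM χ (a - b) = trL hM χ a - trL hM χ b :=
  map_sub (AddMonoidHom.mk' (trL hM χ) (trL_add hM χ)) a b

/-- An element killed by all characters of the quotient maps to zero. -/
theorem mapL_eq_zero {Q : Type*} [Group Q] [Finite Q] {φ : G →* Q} (hφ : Function.Surjective φ)
    {y : Loc hM G}
    (h : ∀ ψ : IrrCharacter Q, ∀ a : Loc hM G, trL hM (fun g => (ψ : Q → ℂ) (φ g)) (y * a) = 0) :
    mapL hM φ y = 0 := by
  classical
  have := Fintype.ofFinite Q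
  have := Fintype.ofFinite (IrrCharacter Q)
  refine MonoidAlgebra.coeff_injective (Finsupp.ext fun q => ?_)
  obtain ⟨g, hg⟩ := hφ q⁻¹
  have key : ∀ ψ : IrrCharacter Q, ∑ n, (((mapL hM φ y).coeff n : locRing hM) : ℂ) *
      (ψ : Q → ℂ) (q⁻¹ * n) = 0 := fun ψ => by
    have h1 := h ψ (el hM g)
    rw [trL_comp, map_mul, mapL_el, hg,
      trL_mul_comm hM (Char.IsIrrCharacter.isClassFunction ψ.2), trL_el_mul] at h1
    exact h1
  have h2 : ∑ ψ : IrrCharacter Q, (ψ : Q → ℂ) 1 * ∑ n, (((mapL hM φ y).coeff n : locRing hM) : ℂ) *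
      (ψ : Q → ℂ) (q⁻¹ * n) = 0 := Finset.sum_eq_zero fun ψ _ => by rw [key, mul_zero]
  simp only [Finset.mul_sum] at h2
  rw [Finset.sum_comm] at h2
  have e : ∀ n : Q, ∑ ψ : IrrCharacter Q, (ψ : Q → ℂ) 1 *
      ((((mapL hM φ y).coeff n : locRing hM) : ℂ) * (ψ : Q → ℂ) (q⁻¹ * n)) =
      (((mapL hM φ y).coeff n : locRing hM) : ℂ) * if q = n then (Nat.card Q : ℂ) else 0 := fun n => by
    rw [show (if q = n then (Nat.card Q : ℂ) else 0) = if q⁻¹ * n = 1 then (Nat.card Q : ℂ) else 0 by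
      simp only [inv_mul_eq_one], ← Char.sum_degree_mul_apply, Finset.mul_sum]
    exact Finset.sum_congr rfl fun ψ _ => by ring
  rw [Finset.sum_congr rfl fun n _ => e n] at h2
  rw [Finset.sum_eq_single q (fun n _ hn => by rw [if_neg (Ne.symm hn), mul_zero]) (by simp),
    if_pos rfl, mul_eq_zero, or_iff_left (Nat.cast_ne_zero.2 Nat.card_pos.ne')] at h2
  exact Subtype.ext h2

/-- An idempotent in the kernel of the reduction along a `p`-group kernel vanishes. -/
theorem eq_zero_of_pushforward (hM : IsPModular p M) (D : Subgroup G) [D.Normal] (hD : IsPGroup p D)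
    {E : MonoidAlgebra (Res M) G} (hE : E * E = E)
    (h0 : MonoidAlgebra.mapDomainRingHom (Res M) (QuotientGroup.mk' D) E = 0) : E = 0 := by
  classical
  letI := ModRep.resField hM
  haveI := res_charP hM
  have := Fintype.ofFinite G
  have := Fintype.ofFinite D
  let ρ : Representation (Res M) D (MonoidAlgebra (Res M) G) :=
    { toFun := fun u => LinearMap.mulLeft (Res M) (MonoidAlgebra.single (u : G) 1)
      map_one' := LinearMap.ext fun x => by
        show MonoidAlgebra.single ((1 : D) : G) (1 : Res M) * x = x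
        rw [OneMemClass.coe_one, ← MonoidAlgebra.one_def, one_mul]
      map_mul' := fun a b => LinearMap.ext fun x => by
        show MonoidAlgebra.single ((a * b : D) : G) (1 : Res M) * x =
          MonoidAlgebra.single (a : G) (1 : Res M) * (MonoidAlgebra.single (b : G) (1 : Res M) * x)
        rw [← mul_assoc, MonoidAlgebra.single_mul_single, mul_one, Subgroup.coe_mul] }
  let W := LinearMap.range (LinearMap.mulRight (Res M) E)
  by_contra hne
  have hW : W ≠ ⊥ := fun hb => by
    have hmem : E ∈ W := ⟨E, hE⟩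
    rw [hb, Submodule.mem_bot] at hmem
    exact hne hmem
  obtain ⟨w, hwW, hw0, hw⟩ := Perm.exists_fixed_ne_zero hD ρ W (by
    rintro g _ ⟨x, rfl⟩
    exact ⟨MonoidAlgebra.single (g : G) 1 * x, mul_assoc _ _ _⟩) hW
  refine hw0 ?_
  have hwE : w * E = w := by
    obtain ⟨x, rfl⟩ := hwW
    show x * E * E = x * E
    rw [mul_assoc, hE]
  have hconst : ∀ d ∈ D, ∀ y : G, w.coeff (d * y) = w.coeff y := fun d hd y => by
    have h := congrArg (fun z : MonoidAlgebra (Res M) G => z.coeff (d * y)) (hw ⟨d, hd⟩)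
    simp only [ρ, MonoidHom.coe_mk, OneHom.coe_mk, LinearMap.mulLeft_apply] at h
    rw [MonoidAlgebra.coeff_single_mul_apply, one_mul, inv_mul_cancel_left] at h
    exact h.symm
  let F : G ⧸ D → Res M := fun q => w.coeff q.out
  have hF : ∀ y : G, F (y : G ⧸ D) = w.coeff y := fun y => by
    obtain ⟨d, hd⟩ := QuotientGroup.mk_out_eq_mul D y
    show w.coeff ((y : G ⧸ D)).out = _
    rw [hd, show y * (d : G) = y * (d : G) * y⁻¹ * y by group,
      hconst _ (Subgroup.Normal.conj_mem ‹_› _ d.2 y)]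
  ext x
  have key : ∀ Z : MonoidAlgebra (Res M) G, (MonoidAlgebra.mapDomainRingHom (Res M)
      (QuotientGroup.mk' D) Z).coeff.sum (fun q c => c * F ((x : G ⧸ D) * q⁻¹)) =
      ∑ z, Z.coeff z * w.coeff (x * z⁻¹) := fun Z => by
    rw [MonoidAlgebra.mapDomainRingHom_apply, MonoidAlgebra.coeff_mapDomain,
      Finsupp.sum_mapDomain_index (fun _ => zero_mul _) (fun _ a b => add_mul a b _),
      Finsupp.sum_fintype _ _ (fun _ => zero_mul _)]
    refine Finset.sum_congr rfl fun z _ => ?_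
    rw [← hF]
    rfl
  have h1 := key E
  rw [h0, MonoidAlgebra.coeff_zero, Finsupp.sum_zero_index] at h1
  rw [← hwE, coeff_mul_eq_sum]
  refine Eq.trans ?_ h1.symm
  refine Fintype.sum_equiv ((Equiv.inv G).trans (Equiv.mulRight x)) _ _ fun y => ?_
  simp [mul_comm]

variable {hM}

/-- The central family. -/
theorem exists_central_family {B : Set (IrrCharacter G)} (hB : IsPBlock M B) {D N : Subgroup G}
    [D.Normal] [N.Normal] (hD : IsPGroup p D) (hND : N ≤ D) {d₀ : ℕ}
    (hdeg : ∀ χ : IrrCharacter G, χ ∈ B → (∀ n ∈ N, (χ : G → ℂ) n = (χ : G → ℂ) 1) →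
      charDegree (χ : G → ℂ) = d₀)
    (hdz : ∀ χ : IrrCharacter G, χ ∈ B → (∀ x ∈ D, (χ : G → ℂ) x = (χ : G → ℂ) 1) →
      (charDegree (χ : G → ℂ)).factorization p = (Nat.card (G ⧸ D)).factorization p)
    (x : Loc hM G) (hx : mapL hM (QuotientGroup.mk' D) x = 0) :
    ∃ (s : Finset (Loc hM G × Loc hM G)) (z a : Loc hM G × Loc hM G → Loc hM G),
      (∀ i ∈ s, mapL hM (QuotientGroup.mk' D) (z i) = 0 ∧
        ∀ g, mapL hM (QuotientGroup.mk' N) (el hM g * z i) =
          mapL hM (QuotientGroup.mk' N) (z i * el hM g)) ∧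
      mapL hM (QuotientGroup.mk' N) (bL hM hB * x * bL hM hB) =
        mapL hM (QuotientGroup.mk' N) (∑ i ∈ s, z i * a i) := by
  classical
  set e := bL hM hB with he_def
  have hee : e * e = e := bL_mul_self hM hB
  have hfix : Fixed (⊥ : Subgroup G) e := fun u hu => by rw [Subgroup.mem_bot.1 hu, cj_one]
  obtain ⟨s, hs, hs0, hsum⟩ := exists_decomp (hM := hM) hfix hee
  have hidem : ∀ l ∈ s, l * l = l := fun l hl => (hs l hl).1.2.1
  have hcl : ∀ χ : IrrCharacter G, IsClassFunction G (χ : G → ℂ) :=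
    fun χ => Char.IsIrrCharacter.isClassFunction χ.2
  have hch : ∀ χ : IrrCharacter G, IsCharacter G (χ : G → ℂ) :=
    fun χ => Char.IsIrrCharacter.isCharacter χ.2
  -- characters outside the block vanish on the corner
  have hout : ∀ χ : IrrCharacter G, χ ∉ B → ∀ l ∈ s, trL hM (χ : G → ℂ) l = 0 := fun χ hχ l hl => by
    rw [← (hs l hl).2.1]
    exact trL_mul_eq_zero hM (hch χ) hee ((trL_bL hM hB χ).2 hχ) l
  -- every primitive idempotent lies under a character of defect zero
  have hψ : ∀ l ∈ s, ∃ ψ : IrrCharacter (G ⧸ D),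
      (charDegree (ψ : G ⧸ D → ℂ)).factorization p = (Nat.card (G ⧸ D)).factorization p ∧
      (∃ χ ∈ B, (∀ n ∈ N, (χ : G → ℂ) n = (χ : G → ℂ) 1) ∧
        ((χ : IrrCharacter G) : G → ℂ) = fun g => (ψ : G ⧸ D → ℂ) (QuotientGroup.mk' D g)) ∧
      trL hM (fun g => (ψ : G ⧸ D → ℂ) (QuotientGroup.mk' D g)) l = 1 := by
    intro l hl
    by_contra hno
    refine prim_rd_ne_zero (hs l hl).1 (eq_zero_of_pushforward hM D hD
      (by rw [← map_mul, hidem l hl]) ?_)
    have h0 : mapL hM (QuotientGroup.mk' D) l = 0 := by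
      refine mapL_eq_zero hM (QuotientGroup.mk'_surjective D) fun ψ a => ?_
      let χ : IrrCharacter G :=
        ⟨_, Char.IsIrrCharacter.comp_surjective ψ.2 _ (QuotientGroup.mk'_surjective D)⟩
      refine trL_mul_eq_zero hM (hch χ) (hidem l hl) ?_ a
      by_cases hχ : χ ∈ B
      · have hD' : ∀ x ∈ D, (χ : G → ℂ) x = (χ : G → ℂ) 1 := fun x hx => by
          show (ψ : G ⧸ D → ℂ) (QuotientGroup.mk' D x) = (ψ : G ⧸ D → ℂ) (QuotientGroup.mk' D 1)
          rw [map_one, show QuotientGroup.mk' D x = 1 from (QuotientGroup.eq_one_iff x).2 hx]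
        have hdψ : (charDegree (ψ : G ⧸ D → ℂ)).factorization p =
            (Nat.card (G ⧸ D)).factorization p := by
          rw [← hdz χ hχ hD']
          congr 2
        rcases le_one_of_defect_zero (hM := hM) (QuotientGroup.mk'_surjective D) hdψ (hs l hl).1
          with h | h
        · exact h
        · exact absurd ⟨ψ, hdψ, ⟨χ, hχ, fun n hn => hD' n (hND hn), rfl⟩, h⟩ hno
      · exact hout χ hχ l hl
    refine MonoidAlgebra.coeff_injective (Finsupp.ext fun q => ?_)
    have h1 := congrArg (fun y : Loc hM (G ⧸ D) => (rd hM y).coeff q) h0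
    have h2 : rd hM (mapL hM (QuotientGroup.mk' D) l) =
        MonoidAlgebra.mapDomainRingHom (Res M) (QuotientGroup.mk' D) (rd hM l) := by
      generalize l = y
      induction y using MonoidAlgebra.induction_linear with
      | zero => simp
      | add a b ha hb => simp only [map_add, ha, hb]
      | single g r => simp [mapL_single, rd, MonoidAlgebra.mapDomainRingHom_apply]
    simp only [map_zero] at h1
    rw [← h2]
    exact h1
  haveI : Nonempty (IrrCharacter (G ⧸ D)) := ⟨oneIrr _⟩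
  choose! ψ hψdz hψB hψ1 using hψ
  let ψG : Loc hM G → G → ℂ := fun l g => (ψ l : G ⧸ D → ℂ) (QuotientGroup.mk' D g)
  let cls : Loc hM G → Finset (Loc hM G) := fun l => s.filter fun m => trL hM (ψG l) m = 1
  have hcls : ∀ l ∈ s, l ∈ cls l ∧ (cls l).card = d₀ := by
    intro l hl
    refine ⟨Finset.mem_filter.2 ⟨hl, hψ1 l hl⟩, ?_⟩
    obtain ⟨χ, hχ, hχN, hχψ⟩ := hψB l hl
    have h1 : ∑ m ∈ s, trL hM (ψG l) m = (d₀ : ℂ) := by
      rw [← trL_sum, hsum, show ψG l = (χ : G → ℂ) from hχψ.symm, (trL_bL hM hB χ).1 hχ,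
        hdeg χ hχ hχN]
    have h2 : ∀ m ∈ s, trL hM (ψG l) m = if trL hM (ψG l) m = 1 then 1 else 0 := fun m hm => by
      rcases le_one_of_defect_zero (hM := hM) (QuotientGroup.mk'_surjective D) (hψdz l hl)
        (hs m hm).1 with h | h
      · rw [show trL hM (ψG l) m = 0 from h]; simp
      · rw [show trL hM (ψG l) m = 1 from h]; simp
    rw [Finset.sum_congr rfl h2, Finset.sum_boole] at h1
    exact_mod_cast h1
  have hassoc : ∀ l ∈ s, ∀ m ∈ cls l, ∃ a b : Loc hM G,
      l * a = a ∧ a * m = a ∧ m * b = b ∧ b * l = b ∧ a * b = l ∧ b * a = m := fun l hl m hm =>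
    trL_eq_of_defect_zero (hM := hM) (QuotientGroup.mk'_surjective D) (hψdz l hl) (hs l hl).1
      (hs m (Finset.mem_filter.1 hm).1).1 (hψ1 l hl) (Finset.mem_filter.1 hm).2
  choose! af bf ha1 ha2 hb1 hb2 hab hba using hassoc
  -- the values of the characters trivial on `N`
  have hval : ∀ χ : IrrCharacter G, χ ∈ B → (∀ n ∈ N, (χ : G → ℂ) n = (χ : G → ℂ) 1) →
      ∀ l ∈ s, trL hM (χ : G → ℂ) l = 0 ∨ (trL hM (χ : G → ℂ) l = 1 ∧
        ∀ m ∈ s, m ∉ cls l → trL hM (χ : G → ℂ) m = 0) := by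
    intro χ hχ hχN l hl
    have hnat : ∀ m ∈ s, ∃ c : ℕ, trL hM (χ : G → ℂ) m = c := fun m hm => by
      obtain ⟨c, hc⟩ := exists_nat_tr (hch χ) (z := inc hM m) (by rw [← map_mul, hidem m hm])
      exact ⟨c, hc⟩
    choose! c hc using hnat
    have heq : ∀ m ∈ cls l, c m = c l := fun m hm => by
      apply Nat.cast_injective (R := ℂ)
      have e1 := trL_mul_comm hM (hcl χ) (bf l m) (af l m)
      rw [hab l hl m hm, hba l hl m hm] at e1
      rw [← hc m (Finset.mem_filter.1 hm).1, ← hc l hl, e1]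
    have h1 : ∑ m ∈ s, c m = d₀ := by
      apply Nat.cast_injective (R := ℂ)
      rw [Nat.cast_sum, ← Finset.sum_congr rfl hc, ← trL_sum, hsum, (trL_bL hM hB χ).1 hχ,
        hdeg χ hχ hχN]
    have h2 : ∑ m ∈ cls l, c m = d₀ * c l := by
      rw [Finset.sum_congr rfl heq, Finset.sum_const, (hcls l hl).2, smul_eq_mul]
    have hd : 0 < d₀ := hdeg χ hχ hχN ▸ charDegree_pos χ
    have h3 : ∑ m ∈ cls l, c m ≤ ∑ m ∈ s, c m := Finset.sum_le_sum_of_subset (Finset.filter_subset _ _)
    rw [h1, h2] at h3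
    have h4 : c l ≤ 1 := Nat.le_of_mul_le_mul_left (by rwa [mul_one]) hd
    rcases Nat.le_one_iff_eq_zero_or_eq_one.1 h4 with h | h
    · exact Or.inl (by rw [hc l hl, h, Nat.cast_zero])
    · refine Or.inr ⟨by rw [hc l hl, h, Nat.cast_one], fun m hm hmc => ?_⟩
      have h5 := Finset.sum_sdiff (s₁ := cls l) (s₂ := s) (f := c) (Finset.filter_subset _ _)
      rw [h1, h2, h, mul_one] at h5
      have h6 : ∑ m ∈ s \ cls l, c m = 0 := by omega
      rw [hc m hm, Finset.sum_eq_zero_iff.1 h6 m (Finset.mem_sdiff.2 ⟨hm, hmc⟩), Nat.cast_zero]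
  -- the transport maps
  let A : Loc hM G → Loc hM G → Loc hM G := fun l q => if q = l then l else af l q
  let A' : Loc hM G → Loc hM G → Loc hM G := fun l q => if q = l then l else bf l q
  have hA : ∀ l ∈ s, ∀ q ∈ cls l, l * A l q = A l q ∧ A l q * q = A l q ∧ q * A' l q = A' l q ∧
      A' l q * l = A' l q ∧ A l q * A' l q = l ∧ A' l q * A l q = q := by
    intro l hl q hq
    by_cases h : q = l
    · subst h
      simp [A, A', hidem q hl]
    · simp only [A, A', if_neg h]
      exact ⟨ha1 l hl q hq, ha2 l hl q hq, hb1 l hl q hq, hb2 l hl q hq, hab l hl q hq, hba l hl q hq⟩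
  let Z : Loc hM G → Loc hM G → Loc hM G := fun l r => ∑ q ∈ cls l, A' l q * r * A l q
  let rr : Loc hM G × Loc hM G → Loc hM G := fun i => i.1 * x * i.2 * A' i.1 i.2
  let P : Finset (Loc hM G × Loc hM G) := (s ×ˢ s).filter fun i => i.2 ∈ cls i.1
  refine ⟨P, fun i => Z i.1 (rr i), fun i => A i.1 i.2, fun i hi => ?_, ?_⟩
  · obtain ⟨hi', hi2⟩ := Finset.mem_filter.1 hi
    obtain ⟨hl, hm⟩ := Finset.mem_product.1 hi'
    refine ⟨?_, fun g => ?_⟩
    · simp only [Z, rr, map_sum, map_mul, hx, mul_zero, zero_mul, Finset.sum_const_zero]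
    refine sub_eq_zero.1 ?_
    rw [← map_sub]
    refine mapL_eq_zero hM (QuotientGroup.mk'_surjective N) fun φ a => ?_
    let χ : IrrCharacter G :=
      ⟨_, Char.IsIrrCharacter.comp_surjective φ.2 _ (QuotientGroup.mk'_surjective N)⟩
    show trL hM (χ : G → ℂ) _ = 0
    have hχN : ∀ n ∈ N, (χ : G → ℂ) n = (χ : G → ℂ) 1 := fun n hn => by
      show (φ : G ⧸ N → ℂ) (QuotientGroup.mk' N n) = (φ : G ⧸ N → ℂ) (QuotientGroup.mk' N 1)
      rw [map_one, show QuotientGroup.mk' N n = 1 from (QuotientGroup.eq_one_iff n).2 hn]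
    set l := i.1
    -- the twisted value
    have hzero : trL hM (χ : G → ℂ) l = 0 → ∀ w, trL hM (χ : G → ℂ) (Z l (rr i) * w) = 0 := by
      intro h0 w
      rw [Finset.sum_mul, trL_sum]
      refine Finset.sum_eq_zero fun q hq => ?_
      obtain ⟨h1, h2, h3, h4, h5, h6⟩ := hA l hl q hq
      rw [← h4, show A' l q * l * rr i * A l q * w = A' l q * (l * (rr i * A l q * w)) by
        simp only [mul_assoc], trL_mul_comm hM (hcl χ), mul_assoc l]
      exact trL_mul_eq_zero hM (hch χ) (hidem l hl) h0 _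
    have hsc : ∃ c : ℂ, ∀ w, trL hM (χ : G → ℂ) (Z l (rr i) * w) = c * trL hM (χ : G → ℂ) (e * w) := by
      by_cases hχ : χ ∈ B
      · rcases hval χ hχ hχN l hl with h0 | ⟨h1', hother⟩
        · exact ⟨0, fun w => by rw [hzero h0, zero_mul]⟩
        · refine ⟨trL hM (χ : G → ℂ) (l * rr i), fun w => ?_⟩
          rw [Finset.sum_mul, trL_sum, ← hsum, Finset.sum_mul, trL_sum,
            ← Finset.sum_sdiff (s₁ := cls l) (s₂ := s) (Finset.filter_subset _ _),
            Finset.sum_eq_zero (s := s \ cls l) fun m hm => by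
              obtain ⟨hm, hmc⟩ := Finset.mem_sdiff.1 hm
              exact trL_mul_eq_zero hM (hch χ) (hidem m hm) (hother m hm hmc) w,
            zero_add, Finset.mul_sum]
          refine Finset.sum_congr rfl fun q hq => ?_
          obtain ⟨h1, h2, h3, h4, h5, h6⟩ := hA l hl q hq
          have e1 : A' l q * rr i * A l q * w = A' l q * (l * rr i * l * (A l q * w)) := by
            conv_lhs => rw [← h4, ← h1]
            simp only [mul_assoc]
          rw [e1, trL_mul_comm hM (hcl χ), mul_assoc _ (A l q * w),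
            trL_sandwich_mul hM (hch χ) (hidem l hl) (Or.inr h1')]
          congr 1
          rw [← mul_assoc, ← mul_assoc, h1, trL_mul_comm hM (hcl χ), ← mul_assoc, h6]
      · exact ⟨0, fun w => by rw [hzero (hout χ hχ l hl), zero_mul]⟩
    obtain ⟨c, hc⟩ := hsc
    rw [sub_mul, trL_sub, mul_assoc, trL_mul_comm hM (hcl χ) (el hM g), mul_assoc, hc,
      mul_assoc, hc, ← mul_assoc e, trL_mul_comm hM (hcl χ) _ (el hM g), ← mul_assoc,
      ← mul_assoc, el_mul_bL hM hB g, sub_self]
  · -- the expansion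
    refine sub_eq_zero.1 ?_
    rw [← map_sub]
    refine mapL_eq_zero hM (QuotientGroup.mk'_surjective N) fun φ a => ?_
    let χ : IrrCharacter G :=
      ⟨_, Char.IsIrrCharacter.comp_surjective φ.2 _ (QuotientGroup.mk'_surjective N)⟩
    show trL hM (χ : G → ℂ) _ = 0
    have hχN : ∀ n ∈ N, (χ : G → ℂ) n = (χ : G → ℂ) 1 := fun n hn => by
      show (φ : G ⧸ N → ℂ) (QuotientGroup.mk' N n) = (φ : G ⧸ N → ℂ) (QuotientGroup.mk' N 1)
      rw [map_one, show QuotientGroup.mk' N n = 1 from (QuotientGroup.eq_one_iff n).2 hn]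
    have hexp : e * x * e = ∑ i ∈ s ×ˢ s, i.1 * x * i.2 := by
      rw [← hsum, Finset.sum_mul, Finset.sum_mul, Finset.sum_product]
      exact Finset.sum_congr rfl fun l _ => Finset.mul_sum _ _ _
    have hterm : ∀ i ∈ P, Z i.1 (rr i) * A i.1 i.2 = i.1 * x * i.2 := by
      intro i hi
      obtain ⟨hi', hi2⟩ := Finset.mem_filter.1 hi
      obtain ⟨hl, hm⟩ := Finset.mem_product.1 hi'
      obtain ⟨h1, h2, h3, h4, h5, h6⟩ := hA i.1 hl i.2 hi2
      rw [Finset.sum_mul, Finset.sum_eq_single i.1]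
      · have e1 : A' i.1 i.1 = i.1 := if_pos rfl
        have e2 : A i.1 i.1 = i.1 := if_pos rfl
        simp only [rr]
        rw [e1, e2]
        calc i.1 * (i.1 * x * i.2 * A' i.1 i.2) * i.1 * A i.1 i.2
            = i.1 * i.1 * x * i.2 * (A' i.1 i.2 * (i.1 * A i.1 i.2)) := by simp only [mul_assoc]
          _ = i.1 * x * (i.2 * i.2) := by rw [h1, h6, hidem _ hl]; simp only [mul_assoc]
          _ = i.1 * x * i.2 := by rw [hidem _ hm]
      · intro q hq hne
        obtain ⟨g1, g2, g3, g4, g5, g6⟩ := hA i.1 hl q hq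
        rw [mul_assoc _ (A i.1 q), ← g2, mul_assoc (A i.1 q), ← h1, ← mul_assoc q,
          hs0 q (Finset.mem_filter.1 hq).1 i.1 hl hne, zero_mul, mul_zero, mul_zero]
      · exact fun h => absurd (hcls i.1 hl).1 h
    rw [hexp, Finset.sum_congr rfl hterm,
      ← Finset.sum_filter_add_sum_filter_not (s ×ˢ s) (fun i => i.2 ∈ cls i.1), add_sub_cancel_left,
      Finset.sum_mul, trL_sum]
    refine Finset.sum_eq_zero fun i hi => ?_
    obtain ⟨hi', hni⟩ := Finset.mem_filter.1 hi
    obtain ⟨hl, hm⟩ := Finset.mem_product.1 hi'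
    have hleft : trL hM (χ : G → ℂ) i.1 = 0 → trL hM (χ : G → ℂ) (i.1 * x * i.2 * a) = 0 := fun h => by
      rw [mul_assoc, mul_assoc]
      exact trL_mul_eq_zero hM (hch χ) (hidem _ hl) h _
    by_cases hχ : χ ∈ B
    · rcases hval χ hχ hχN i.1 hl with h | ⟨-, h⟩
      · exact hleft h
      · rw [mul_assoc _ i.2, trL_mul_comm hM (hcl χ), mul_assoc]
        exact trL_mul_eq_zero hM (hch χ) (hidem _ hm) (h i.2 hm hni) _
    · exact hleft (hout χ hχ _ hl)

end Cfsg.Agent.EqualDegree
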