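import Cfsg.Agent.Lib.Blocks.EqualDegree.NormalPairs
import Cfsg.Agent.Lib.Blocks.EqualDegree.Central
import Cfsg.Agent.Lib.BlocksNormal.CentralizedDefect
import Cfsg.Agent.Lib.BlocksNormal.Deflate
import Cfsg.Agent.Lib.BlocksNormal.Basic

/-!
# The image of the pair in the quotient by the defect group

For `φ : G →* Q` surjective with kernel the normal defect group `D`, and `H = D C(D)`:
* `map_cb_ne_zero`: the image `E` of the idempotent of the pair is non-zero;
* `lam_unique`: exactly one central character of `φ H` is non-zero at `E`;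
* `nilpotent_diff`: central elements of `φ H` agree with their conjugates under the stabiliser up
  to nilpotents at `E`.
-/

set_option autoImplicit false
set_option linter.unusedSectionVars false
set_option maxHeartbeats 1000000

namespace Cfsg.Agent.EqualDegree

open Cfsg Cfsg.Agent.Blocks Cfsg.Agent.BrauerPairs

variable {G : Type*} [Group G] [Finite G] {Q : Type*} [Group Q] [Finite Q] {p : ℕ} [Fact p.Prime]
  {M : Ideal AlgInt} (hM : IsPModular p M) {D : Subgroup G} [D.Normal] {φ : G →* Q}
  (hφ : Function.Surjective φ) (hker : ∀ g, φ g = 1 ↔ g ∈ D)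
  {B : Set (IrrCharacter G)} (hD : IsDefectGroup p M B D)
  {c : Set (IrrCharacter (Subgroup.centralizer (D : Set G)))} (hc : IsBrauerPairOf p M B D c)

theorem lam_cj {L : Subgroup Q} {t : Q} (ht : ∀ x, x ∈ L ↔ t * x * t⁻¹ ∈ L) (ξ : IrrCharacter L)
    (z : MonoidAlgebra (Res M) Q) :
    lam M L ξ (cj t z) = lam M L (pullIrr (conjEquiv L L t ht) ξ) z := by
  have := Fintype.ofFinite L
  rw [lam, lam, lamG, lamG, omega_eq_sum, omega_eq_sum]
  congr 2
  · refine (Fintype.sum_equiv (conjEquiv L L t ht).toEquiv _ _ fun x => ?_).symm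
    simp only [MulEquiv.toEquiv_eq_coe, EquivLike.coe_coe, pullIrr_apply, lift, coeff_pull, coeff_cj]
    congr 2
    simp [conjEquiv, mul_assoc]
  · simp [pullIrr_apply]

theorem lam_sub {L : Subgroup Q} {z w : MonoidAlgebra (Res M) Q} (hM : IsPModular p M)
    (hz : IsCentralIn L z) (hw : IsCentralIn L w) (ξ : IrrCharacter L) :
    lam M L ξ (z - w) = lam M L ξ z - lam M L ξ w := by
  have hzw : IsCentralIn L (z - w) := ⟨fun x hx => by
    rw [MonoidAlgebra.coeff_sub, Finsupp.sub_apply, hz.1 x hx, hw.1 x hx, sub_zero],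
    fun u hu => by rw [map_sub, hz.2 u hu, hw.2 u hu]⟩
  have h := lam_add hM hzw hw ξ
  rw [sub_add_cancel] at h
  rw [h, add_sub_cancel_right]

include hker in
theorem map_cb_ne_zero (hc : IsBrauerPairOf p M B D c) (hM : IsPModular p M) :
    MonoidAlgebra.mapDomainRingHom (Res M) φ (cb M D c) ≠ 0 := by
  intro h0
  have hle : D ≤ φ.ker := fun d hd => (hker d).2 hd
  let ψ : G ⧸ D →* Q := QuotientGroup.lift D φ hle
  have hinj : Function.Injective ψ := by
    refine (injective_iff_map_eq_one ψ).2 fun q hq => ?_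
    obtain ⟨g, rfl⟩ := QuotientGroup.mk_surjective q
    exact (QuotientGroup.eq_one_iff g).2 ((hker g).1 hq)
  refine bIdem_ne_zero hM hc.1.2 (eq_zero_of_pushforward hM D hc.1.1
    (show cb M D c * cb M D c = cb M D c from bIdem_mul_self hM hc.1.2) ?_)
  have hcomp : φ = ψ.comp (QuotientGroup.mk' D) := MonoidHom.ext fun g => rfl
  rw [hcomp, MonoidAlgebra.mapDomainRingHom_comp, RingHom.comp_apply] at h0
  refine MonoidAlgebra.mapDomain_injective (f := ψ) hinj ?_
  rw [MonoidAlgebra.mapDomain_zero]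
  exact h0

include hM hD hc hφ hker in
theorem lam_unique : ∀ ξ η : IrrCharacter ((D ⊔ Subgroup.centralizer (D : Set G)).map φ),
    lam M ((D ⊔ Subgroup.centralizer (D : Set G)).map φ) ξ
      (MonoidAlgebra.mapDomainRingHom (Res M) φ (cb M D c)) ≠ 0 →
    lam M ((D ⊔ Subgroup.centralizer (D : Set G)).map φ) η
      (MonoidAlgebra.mapDomainRingHom (Res M) φ (cb M D c)) ≠ 0 → ξ = η := by
  classical
  set H := D ⊔ Subgroup.centralizer (D : Set G) with hH
  obtain ⟨F, hF, heq, hFD⟩ := exists_block_sup hM hD hc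
  have := Fintype.ofFinite H
  have := Fintype.ofFinite (H.map φ)
  have := Fintype.ofFinite G
  let φH : H →* H.map φ := φ.subgroupMap H
  have hsurj : Function.Surjective φH := φ.subgroupMap_surjective H
  let infl : IrrCharacter (H.map φ) → IrrCharacter H := fun ξ =>
    ⟨_, Char.IsIrrCharacter.comp_surjective ξ.2 φH hsurj⟩
  have hlam : ∀ ξ : IrrCharacter (H.map φ),
      lam M (H.map φ) ξ (MonoidAlgebra.mapDomainRingHom (Res M) φ (cb M D c)) =
        lamG M (infl ξ) (blk M F) := by
    intro ξ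
    have hpull : pull (H.map φ) (MonoidAlgebra.mapDomainRingHom (Res M) φ (cb M D c)) =
        red M (BlocksNormal.pushFun φH (blockCoeff F)) := by
      have hnat : MonoidAlgebra.mapDomainRingHom (Res M) φ (cb M D c) =
          emb (H.map φ) (MonoidAlgebra.mapDomainRingHom (Res M) φH (blk M F)) := by
        rw [← heq]
        show MonoidAlgebra.mapDomainRingHom (Res M) φ
            (MonoidAlgebra.mapDomainRingHom (Res M) H.subtype (blk M F)) =
          MonoidAlgebra.mapDomainRingHom (Res M) (H.map φ).subtype _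
        rw [← RingHom.comp_apply, ← RingHom.comp_apply, ← MonoidAlgebra.mapDomainRingHom_comp,
          ← MonoidAlgebra.mapDomainRingHom_comp]
        rfl
      rw [hnat, pull_emb]
      ext y
      rw [MonoidAlgebra.mapDomainRingHom_apply, MonoidAlgebra.coeff_mapDomain, coeff_red,
        Finsupp.mapDomain, Finsupp.sum_fintype _ _ (fun _ => by simp), Finsupp.finsetSum_apply,
        BlocksNormal.pushFun, res_sum hM]
      · refine Finset.sum_congr rfl fun x _ => ?_
        rw [Finsupp.single_apply, blk, coeff_red]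
        split_ifs <;> simp [res_zero hM]
      · intro x _
        split_ifs
        exacts [Blocks.memR_blockCoeff hM hF x, memR_zero hM]
    rw [lam, hpull, lamG_red hM
      (BlocksNormal.isClassFunction_pushFun hsurj (Blocks.isClassFunction_blockCoeff F))
      (BlocksNormal.memR_pushFun hM φH (Blocks.memR_blockCoeff hM hF)), ← BlocksNormal.omega_comp,
      blk, lamG_red hM (Blocks.isClassFunction_blockCoeff F) (Blocks.memR_blockCoeff hM hF)]
  intro ξ η hξ hη
  have hmem : ∀ ζ : IrrCharacter (H.map φ),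
      lam M (H.map φ) ζ (MonoidAlgebra.mapDomainRingHom (Res M) φ (cb M D c)) ≠ 0 →
      infl ζ ∈ F ∧ ∀ x ∈ D.subgroupOf H, (infl ζ : H → ℂ) x = (infl ζ : H → ℂ) 1 := by
    intro ζ hζ
    refine ⟨?_, fun x hx => ?_⟩
    · by_contra hnot
      rw [hlam, lamG_blk hM hF, if_neg hnot] at hζ
      exact hζ rfl
    · show (ζ : H.map φ → ℂ) (φH x) = (ζ : H.map φ → ℂ) (φH 1)
      refine congrArg _ (Subtype.ext ?_)
      show φ (x : G) = φ ((1 : H) : G)
      rw [OneMemClass.coe_one, map_one]
      exact (hker _).2 hx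
  have hG : D.subgroupOf H ⊔ Subgroup.centralizer ((D.subgroupOf H : Subgroup H) : Set H) = ⊤ := by
    rw [eq_top_iff]
    refine le_trans ?_ (sup_le_sup_left (show (Subgroup.centralizer (D : Set G)).subgroupOf H ≤ _
      from fun x hx => Subgroup.mem_centralizer_iff.2 fun y hy => Subtype.ext
        (Subgroup.mem_centralizer_iff.1 hx _ hy)) _)
    rw [← Subgroup.subgroupOf_sup le_sup_left le_sup_right]
    exact fun x _ => x.2
  have heq2 := BlocksNormal.unique_trivOn hM (hc.1.1.comap_of_injective _ H.subtype_injective) hG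
    hF hFD (hmem η hη).1 (hmem η hη).2 (hmem ξ hξ).1 (hmem ξ hξ).2
  refine Subtype.ext (funext fun y => ?_)
  obtain ⟨x, rfl⟩ := hsurj y
  exact congrFun (congrArg Subtype.val heq2) x

include hM hD hc hφ hker in
/-- Central elements of the image and their conjugates differ by nilpotents. -/
theorem nilpotent_diff {t : G} (ht : t ∈ pairStab M D c) {F : MonoidAlgebra (Res M) Q}
    (hFs : SuppIn ((D ⊔ Subgroup.centralizer (D : Set G)).map φ) F)
    (hFf : Fixed ((D ⊔ Subgroup.centralizer (D : Set G)).map φ) F) :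
    IsNilpotent ((F - cj (φ t) F) * MonoidAlgebra.mapDomainRingHom (Res M) φ (cb M D c)) := by
  classical
  have := Fintype.ofFinite Q
  have := res_isDomain hM
  set H := D ⊔ Subgroup.centralizer (D : Set G) with hH
  set L := H.map φ with hL
  set E := MonoidAlgebra.mapDomainRingHom (Res M) φ (cb M D c) with hE
  haveI : H.Normal := inferInstance
  haveI : L.Normal := Subgroup.Normal.map inferInstance φ hφ
  have hnorm : ∀ x, x ∈ L ↔ φ t * x * (φ t)⁻¹ ∈ L := fun x => by
    refine ⟨fun hx => Subgroup.Normal.conj_mem inferInstance _ hx _, fun hx => ?_⟩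
    simpa [mul_assoc] using Subgroup.Normal.conj_mem ‹L.Normal› _ hx (φ t)⁻¹
  have hcj : ∀ (g : G) (a : MonoidAlgebra (Res M) G),
      MonoidAlgebra.mapDomainRingHom (Res M) φ (cj g a) =
        cj (φ g) (MonoidAlgebra.mapDomainRingHom (Res M) φ a) := fun g a => by
    induction a using MonoidAlgebra.induction_linear with
    | zero => simp
    | add a b ha hb => simp only [map_add, ha, hb]
    | single x r => simp [cj_single, MonoidAlgebra.mapDomainRingHom_apply]
  have hEc : IsCentralIn L E := by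
    refine ⟨fun y hy => ?_, ?_⟩
    · simp only [hE, MonoidAlgebra.mapDomainRingHom_apply, MonoidAlgebra.coeff_mapDomain,
        Finsupp.mapDomain, Finsupp.sum, Finsupp.finsetSum_apply]
      refine Finset.sum_eq_zero fun x hx => Finsupp.single_eq_of_ne fun hxy => hy ⟨x, ?_, hxy.symm⟩
      exact Subgroup.mem_sup_right ((bIdem_central _ c).1.mem_of_ne (Finsupp.mem_support_iff.1 hx))
    · rintro _ ⟨h, hh, rfl⟩
      rw [hE, ← hcj, (fixed_pairStab D c h ((sup_le (le_pairStab D c)
        (centralizer_le_pairStab hM D c)) hh)).symm.symm]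
  have hFc : IsCentralIn L F := ⟨hFs, hFf⟩
  have hFtc : IsCentralIn L (cj (φ t) F) := by
    refine ⟨hFs.cj_mem fun x hx => (hnorm x).1 hx, fun u hu => ?_⟩
    have hu' : (φ t)⁻¹ * u * φ t ∈ L := by
      simpa [mul_assoc] using Subgroup.Normal.conj_mem ‹L.Normal› _ hu (φ t)⁻¹
    rw [← cj_mul, show u * φ t = φ t * ((φ t)⁻¹ * u * φ t) by group, cj_mul, hFf _ hu']
  have hdc : IsCentralIn L (F - cj (φ t) F) := ⟨fun x hx => by
    rw [MonoidAlgebra.coeff_sub, Finsupp.sub_apply, hFc.1 x hx, hFtc.1 x hx, sub_zero],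
    fun u hu => by rw [map_sub, hFc.2 u hu, hFtc.2 u hu]⟩
  refine isNilpotent_of_lam hM (hdc.mul hEc) fun ξ => ?_
  rw [lam_mul hM hdc hEc]
  by_cases h0 : lam M L ξ E = 0
  · rw [h0, mul_zero]
  have hξ : pullIrr (conjEquiv L L (φ t) hnorm) ξ = ξ := by
    refine lam_unique hM hφ hker hD hc _ _ ?_ h0
    rw [← lam_cj hnorm, ← hcj, ht.2]
    exact h0
  rw [lam_sub hM hFc hFtc, lam_cj hnorm, hξ, sub_self, zero_mul]

end Cfsg.Agent.EqualDegree
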