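import Cfsg.Agent.Lib.Blocks.EqualDegree.NilTrace
import Cfsg.Agent.Lib.BrauerPairs.PermIdem
import Cfsg.Agent.Lib.ModRep.Basic
import Cfsg.Agent.Lib.Blocks.Defect

/-!
# Primitive idempotents under a character of defect zero

Let `φ : G →* Q` be surjective and `ψ` a character of defect zero of `Q`.
* `le_one_of_defect_zero`: `ψ (φ j) ≤ 1` for a primitive idempotent `j` of `G`;
* `trL_eq_of_defect_zero`: two primitive idempotents with value one at `ψ` are associated.
-/

set_option autoImplicit false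
set_option linter.unusedSectionVars false
set_option linter.style.haveILetI false
set_option maxHeartbeats 1000000

namespace Cfsg.Agent.EqualDegree

open Cfsg Cfsg.Agent.Blocks Cfsg.Agent.BrauerPairs Cfsg.Agent.Star Matrix

section casimir

variable {Q : Type*} [Group Q] [Fintype Q] {n : ℕ} (ρ : Representation ℂ Q (Fin n → ℂ))
  [ρ.IsIrreducible]

/-- Schur averaging. -/
theorem sum_conj_eq (Y : Module.End ℂ (Fin n → ℂ)) : ∃ c : ℂ,
    (∑ g, ρ g * Y * ρ g⁻¹) = c • 1 ∧ c * n = Nat.card Q * LinearMap.trace ℂ _ Y := by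
  obtain ⟨c, hc⟩ := ModRep.exists_scalar ρ (∑ g, ρ g * Y * ρ g⁻¹) fun h v => by
    rw [← Module.End.mul_apply, ← Module.End.mul_apply]
    congr 1
    rw [Finset.sum_mul, Finset.mul_sum]
    refine (Fintype.sum_equiv (Equiv.mulLeft h⁻¹) _ _ fun g => ?_)
    simp only [Equiv.coe_mulLeft, _root_.mul_inv_rev, inv_inv, map_mul, mul_assoc]
    rw [← mul_assoc (ρ h) (ρ h⁻¹), ← map_mul ρ h h⁻¹, mul_inv_cancel, map_one, one_mul]
  have hc' : (∑ g, ρ g * Y * ρ g⁻¹) = c • 1 := LinearMap.ext fun v => by rw [hc v]; rfl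
  refine ⟨c, hc', ?_⟩
  have h := congrArg (LinearMap.trace ℂ (Fin n → ℂ)) hc'
  rw [map_sum, map_smul, LinearMap.trace_one, Module.finrank_fintype_fun_eq_card,
    Fintype.card_fin, smul_eq_mul] at h
  rw [← h, Finset.sum_congr rfl (g := fun _ => LinearMap.trace ℂ _ Y), Finset.sum_const,
    Finset.card_univ, nsmul_eq_mul, ← Nat.card_eq_fintype_card]
  intro g _
  rw [LinearMap.trace_mul_comm, ← mul_assoc, ← map_mul, inv_mul_cancel, map_one, one_mul]

/-- The first Casimir identity. -/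
theorem casimir_one (X Y : Module.End ℂ (Fin n → ℂ)) :
    (n : ℂ) * ∑ g, LinearMap.trace ℂ _ (X * (ρ g * Y * ρ g⁻¹)) =
      Nat.card Q * LinearMap.trace ℂ _ X * LinearMap.trace ℂ _ Y := by
  obtain ⟨c, hc, hcn⟩ := sum_conj_eq ρ Y
  rw [← map_sum, ← Finset.mul_sum, hc, mul_smul_comm, mul_one, map_smul, smul_eq_mul]
  linear_combination (LinearMap.trace ℂ _ X) * hcn

/-- The second Casimir identity. -/
theorem casimir_two (X Y : Module.End ℂ (Fin n → ℂ)) :
    (n : ℂ) * ∑ g, LinearMap.trace ℂ _ (X * ρ g) * LinearMap.trace ℂ _ (ρ g⁻¹ * Y) =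
      Nat.card Q * LinearMap.trace ℂ _ (X * Y) := by
  classical
  let F : Module.End ℂ (Fin n → ℂ) ≃ₐ[ℂ] Matrix (Fin n) (Fin n) ℂ := LinearMap.toMatrixAlgEquiv'
  have htr : ∀ W, LinearMap.trace ℂ _ W = Matrix.trace (F W) := fun W => by
    rw [LinearMap.trace_eq_matrix_trace ℂ (Pi.basisFun ℂ (Fin n))]
    rfl
  have hpair : ∀ V W, LinearMap.trace ℂ _ (V * W) =
      ∑ a : Fin n × Fin n, F V a.1 a.2 * F W a.2 a.1 := fun V W => by
    rw [htr, map_mul, Fintype.sum_prod_type]
    rfl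
  have key : ∀ i j k l : Fin n, (n : ℂ) * ∑ g, F (ρ g) j i * F (ρ g⁻¹) k l =
      if i = k ∧ j = l then (Nat.card Q : ℂ) else 0 := by
    intro i j k l
    obtain ⟨c, hc, hcn⟩ := sum_conj_eq ρ (F.symm (Matrix.single i k (1 : ℂ)))
    rw [htr, AlgEquiv.apply_symm_apply] at hcn
    have h := congrArg (fun W : Module.End ℂ (Fin n → ℂ) => (F W : Matrix (Fin n) (Fin n) ℂ) j l) hc
    simp only [map_sum, map_mul, map_smul, map_one, AlgEquiv.apply_symm_apply, Matrix.sum_apply,
      Matrix.smul_apply, smul_eq_mul] at h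
    have e : ∀ g, ((F (ρ g) * Matrix.single i k (1 : ℂ) * F (ρ g⁻¹) : Matrix (Fin n) (Fin n) ℂ)) j l =
        F (ρ g) j i * F (ρ g⁻¹) k l := fun g => by
      rw [Matrix.mul_apply, Finset.sum_eq_single k]
      · simp
      · intro b _ hb
        rw [Matrix.mul_single_apply_of_ne _ _ _ _ _ hb, zero_mul]
      · simp
    rw [Finset.sum_congr rfl fun g _ => e g] at h
    rw [h]
    by_cases hjl : j = l
    · subst hjl
      by_cases hik : i = k
      · subst hik
        rw [Matrix.one_apply_eq, mul_one, if_pos ⟨rfl, rfl⟩]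
        rw [Matrix.trace_single_eq_same, mul_one] at hcn
        linear_combination hcn
      · rw [Matrix.one_apply_eq, mul_one, if_neg fun h => hik h.1]
        rw [Matrix.trace_single_eq_of_ne _ _ _ hik, mul_zero] at hcn
        linear_combination hcn
    · rw [Matrix.one_apply_ne hjl, mul_zero, mul_zero, if_neg fun h => hjl h.2]
  have step : ∀ (r r' : Q → Fin n × Fin n → ℂ) (A B : Fin n × Fin n → ℂ),
      ∑ g, (∑ a, A a * r g a) * (∑ b, r' g b * B b) = ∑ a, ∑ b, (∑ g, r g a * r' g b) * (A a * B b) := by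
    intro r r' A B
    simp only [Finset.sum_mul_sum]
    rw [Finset.sum_comm]
    refine Finset.sum_congr rfl fun a _ => ?_
    rw [Finset.sum_comm]
    refine Finset.sum_congr rfl fun b _ => ?_
    rw [Finset.sum_mul]
    exact Finset.sum_congr rfl fun g _ => by ring
  rw [Finset.sum_congr rfl fun g _ => congrArg₂ (· * ·) (hpair X (ρ g)) (hpair (ρ g⁻¹) Y),
    step (fun g a => F (ρ g) a.2 a.1) (fun g b => F (ρ g⁻¹) b.1 b.2), hpair X Y,
    Finset.mul_sum, Finset.mul_sum]
  refine Finset.sum_congr rfl fun a _ => ?_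
  rw [Finset.mul_sum, Finset.sum_eq_single a]
  · rw [← mul_assoc, key, if_pos ⟨rfl, rfl⟩]
  · intro b _ hb
    rw [← mul_assoc, key, if_neg (fun h => hb (Prod.ext h.1.symm h.2.symm)), zero_mul]
  · simp

end casimir

variable {G : Type*} [Group G] [Finite G] {Q : Type*} [Group Q] [Finite Q] {p : ℕ} {M : Ideal AlgInt}
  (hM : IsPModular p M) (φ : G →* Q)

/-- The map of local group algebras. -/
noncomputable def mapL : Loc hM G →+* Loc hM Q := MonoidAlgebra.mapDomainRingHom (locRing hM) φ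

theorem mapL_single (g : G) (r : locRing hM) :
    mapL hM φ (MonoidAlgebra.single g r) = MonoidAlgebra.single (φ g) r :=
  MonoidAlgebra.mapDomain_single

theorem mapL_el (g : G) : mapL hM φ (el hM g) = el hM (φ g) := mapL_single hM φ g 1

theorem trL_single {χ : G → ℂ} (g : G) (r : locRing hM) :
    trL hM χ (MonoidAlgebra.single g r) = (r : ℂ) * χ g := by
  have := Fintype.ofFinite G
  rw [trL, tr_def, Finset.sum_eq_single g]
  · simp [inc]
  · intro b _ hb; simp [inc, Ne.symm hb]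
  · simp

theorem trL_add (χ : G → ℂ) (a b : Loc hM G) :
    trL hM χ (a + b) = trL hM χ a + trL hM χ b := by rw [trL, map_add, tr_add, trL, trL]

theorem trL_zero (χ : G → ℂ) : trL hM χ 0 = 0 := by rw [trL, map_zero, tr_zero]

theorem trL_comp (ψ : Q → ℂ) (x : Loc hM G) :
    trL hM (fun g => ψ (φ g)) x = trL hM ψ (mapL hM φ x) := by
  induction x using MonoidAlgebra.induction_linear with
  | zero => simp [trL_zero]
  | add a b ha hb => rw [map_add, trL_add, trL_add, ha, hb]
  | single g r => rw [mapL_single, trL_single, trL_single]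

section prim

variable {hM}

/-- Products in the corner of a primitive idempotent, modulo the maximal ideal. -/
theorem res_trL_corner_mul [Fact p.Prime] {χ : G → ℂ} (hχ : IsCharacter G χ) {j : Loc hM G}
    (hj : IsPrim (hM := hM) ⊥ j) (x y : Loc hM G) :
    MemLocalRing M (trL hM χ j) ∧
    MemLocalRing M (trL hM χ (j * x * j * (j * y * j))) ∧
    res M (trL hM χ (j * x * j * (j * y * j))) = tau hM j x * tau hM j y * res M (trL hM χ j) ∧
    MemLocalRing M (trL hM χ (j * x * j)) ∧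
    res M (trL hM χ (j * x * j)) = tau hM j x * res M (trL hM χ j) := by
  have hbot : ∀ a : Loc hM G, Fixed ⊥ a := fun a u hu => by
    rw [Subgroup.mem_bot.1 hu, cj_one]
  have hcl : IsClassFunction G χ := Char.IsCharacter.isClassFunction hχ
  let c : Loc hM G → locRing hM := fun z => ⟨unres (tau hM j z), memR_unres hM _⟩
  let n : Loc hM G → Loc hM G := fun z => j * z * j - c z • j
  have hn : ∀ z, IsNilpotent (rd hM (n z)) ∧ InCorner j (n z) := fun z => by
    refine ⟨?_, by rw [mul_sub, (InCorner.sandwich hj.2.1 z).1, (smul_corner hM hj.2.1 (c z)).1],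
      by rw [sub_mul, (InCorner.sandwich hj.2.1 z).2, (smul_corner hM hj.2.1 (c z)).2]⟩
    rw [map_sub, rd_smul]
    show IsNilpotent (rd hM (j * z * j) - res M (unres (tau hM j z)) • rd hM j)
    rw [res_unres hM]
    exact tau_spec hM hj (hbot z)
  have hdec : ∀ z, j * z * j = c z • j + n z := fun z => by simp [n]
  have hlin : ∀ (r : locRing hM) (z : Loc hM G), trL hM χ (r • z) = (r : ℂ) * trL hM χ z := by
    intro r z
    induction z using MonoidAlgebra.induction_linear with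
    | zero => rw [smul_zero, trL_zero, mul_zero]
    | add a b ha hb => rw [smul_add, trL_add, trL_add, ha, hb, mul_add]
    | single g s =>
      rw [MonoidAlgebra.smul_single, trL_single, trL_single, smul_eq_mul, Subring.coe_mul, mul_assoc]
  have hjR : MemLocalRing M (trL hM χ j) := by
    obtain ⟨m, hm⟩ := exists_nat_tr hχ (z := inc hM j) (by rw [← map_mul, hj.2.1])
    rw [trL, hm]
    exact memR_natCast hM m
  have hone : ∀ z, MemLocalRing M (trL hM χ (j * z * j)) ∧
      res M (trL hM χ (j * z * j)) = tau hM j z * res M (trL hM χ j) := fun z => by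
    have h1 := memI_trL_of_nilpotent hM hχ (hn z).1
    have h2 := memR_mul hM (c z).2 hjR
    rw [hdec, trL_add, hlin]
    refine ⟨memR_add hM h2 (memR_of_memI h1), ?_⟩
    rw [res_add hM h2 (memR_of_memI h1), res_mul hM (c z).2 hjR,
      (res_eq_zero_iff hM (memR_of_memI h1)).2 h1, add_zero]
    show res M (unres (tau hM j z)) * _ = _
    rw [res_unres hM]
  have hnilmul : MemLocalIdeal M (trL hM χ (n x * (j * y * j))) := by
    rw [trL_mul_comm hM hcl]
    refine memI_trL_of_nilpotent hM hχ ((prim_dichotomy hj (hbot _)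
      ((InCorner.sandwich hj.2.1 y).mul (hn x).2)).resolve_right ?_)
    rintro ⟨z, -, -, -, hz⟩
    exact corner_not_invertible hj (hn x).2 (hn x).1 (by rw [mul_assoc, hz] : z * (j * y * j) * n x = j)
  have key : j * x * j * (j * y * j) = c x • (j * y * j) + n x * (j * y * j) := by
    conv_lhs => rw [hdec x, add_mul, smul_mul_assoc, (InCorner.sandwich hj.2.1 y).1]
  refine ⟨hjR, ?_, ?_, (hone x).1, (hone x).2⟩
  · rw [key, trL_add, hlin]
    exact memR_add hM (memR_mul hM (c x).2 (hone y).1) (memR_of_memI hnilmul)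
  · rw [key, trL_add, hlin, res_add hM (memR_mul hM (c x).2 (hone y).1) (memR_of_memI hnilmul),
      res_mul hM (c x).2 (hone y).1, (hone y).2, (res_eq_zero_iff hM (memR_of_memI hnilmul)).2 hnilmul,
      add_zero]
    show res M (unres (tau hM j x)) * _ = _
    rw [res_unres hM, mul_assoc]

end prim

variable [Fact p.Prime]

/-- The quotient `|Q| / ψ 1` of a character of defect zero. -/
theorem exists_cofactor {ψ : IrrCharacter Q}
    (hdz : (charDegree (ψ : Q → ℂ)).factorization p = (Nat.card Q).factorization p) :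
    ∃ c : ℕ, charDegree (ψ : Q → ℂ) * c = Nat.card Q ∧ ¬ p ∣ c := by
  obtain ⟨c, hc⟩ := charDegree_dvd_card ψ
  refine ⟨c, hc.symm, fun hdvd => ?_⟩
  have hc0 : c ≠ 0 := fun h0 => Nat.card_pos.ne' (by rw [hc, h0, mul_zero] : Nat.card Q = 0)
  rw [hc, Nat.factorization_mul (charDegree_pos ψ).ne' hc0, Finsupp.add_apply] at hdz
  have := (Fact.out : p.Prime).factorization_pos_of_dvd hc0 hdvd
  omega

variable {φ}

theorem le_one_of_defect_zero (hφ : Function.Surjective φ) {ψ : IrrCharacter Q}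
    (hdz : (charDegree (ψ : Q → ℂ)).factorization p = (Nat.card Q).factorization p)
    {j : Loc hM G} (hj : IsPrim (hM := hM) ⊥ j) : Le1 hM (fun g => (ψ : Q → ℂ) (φ g)) j := by
  classical
  have := Fintype.ofFinite Q
  have hψ' := Char.IsIrrCharacter.isCharacter (Char.IsIrrCharacter.comp_surjective ψ.2 φ hφ)
  obtain ⟨c, hc, hpc⟩ := exists_cofactor hdz
  obtain ⟨d, ρ, hirr, hρ⟩ := ψ.2
  haveI := hirr
  have hd : charDegree (ψ : Q → ℂ) = d := by
    apply Nat.cast_injective (R := ℂ)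
    rw [charDegree_cast, ← hρ, Representation.char_one, Module.finrank_fintype_fun_eq_card,
      Fintype.card_fin]
  have hd0 : (d : ℂ) ≠ 0 := Nat.cast_ne_zero.2 (hd ▸ (charDegree_pos ψ).ne')
  have hcd : (Nat.card Q : ℂ) = d * c := by rw [← hd, ← Nat.cast_mul, hc]
  set J := mapL hM φ j with hJ
  have hJJ : J * J = J := by rw [hJ, ← map_mul, hj.2.1]
  have htr : ∀ x : Loc hM Q, trL hM (ψ : Q → ℂ) x = LinearMap.trace ℂ _ (ρ.asAlgebraHom (inc hM x)) :=
    fun x => by rw [trL, ← hρ, tr_eq_trace]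
  have hel : ∀ q, ρ.asAlgebraHom (inc hM (el hM q)) = ρ q := fun q => by simp [inc, el]
  obtain ⟨m, hm⟩ := exists_nat_tr (Char.IsIrrCharacter.isCharacter ψ.2) (z := inc hM J)
    (by rw [← map_mul, hJJ])
  have hm' : trL hM (fun g => (ψ : Q → ℂ) (φ g)) j = m := by rw [trL_comp, ← hJ, trL, hm]
  set Jr := ρ.asAlgebraHom (inc hM J) with hJr
  have hJJr : Jr * Jr = Jr := by rw [hJr, ← map_mul, ← map_mul, hJJ]
  have htm : LinearMap.trace ℂ _ Jr = m := by rw [hJr, ← htr, trL, hm]
  obtain ⟨s, hs⟩ := hφ.hasRightInverse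
  have hcyc : ∀ X Y : Module.End ℂ (Fin d → ℂ), LinearMap.trace ℂ _ (Jr * X * Jr * (Jr * Y * Jr)) =
      LinearMap.trace ℂ _ (Jr * X * Jr * Y) := fun X Y => by
    rw [← mul_assoc, ← mul_assoc, mul_assoc (Jr * X) Jr Jr, hJJr, LinearMap.trace_mul_comm]
    simp only [← mul_assoc, hJJr]
  let K : Q → Q → Loc hM G := fun a h => j * el hM (s a⁻¹) * j * (j * el hM (s h) * j)
  have hKval : ∀ a h, trL hM (fun g => (ψ : Q → ℂ) (φ g)) (K a h) =
      LinearMap.trace ℂ _ (Jr * ρ a⁻¹ * Jr * ρ h) := fun a h => by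
    rw [trL_comp, htr]
    simp only [K, map_mul, mapL_el, hs _, hel, ← hJ, ← hJr]
    exact hcyc _ _
  have hcR : MemLocalRing M ((c : ℂ)⁻¹) :=
    memR_inv hM (memR_natCast hM c) (not_memI_natCast hM hpc)
  let E : Matrix Q Q (locRing hM) := Matrix.of fun a h =>
    ⟨(c : ℂ)⁻¹ * trL hM (fun g => (ψ : Q → ℂ) (φ g)) (K a h),
      memR_mul hM hcR (res_trL_corner_mul hψ' hj _ _).2.1⟩
  have hc0 : (c : ℂ) ≠ 0 := Nat.cast_ne_zero.2 fun h0 => hpc (h0 ▸ dvd_zero p)
  have hE : E * E = E := by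
    ext a h
    rw [Matrix.mul_apply, AddSubmonoidClass.coe_finsetSum]
    simp only [E, Matrix.of_apply, Subring.coe_mul, hKval]
    have h2 := casimir_two ρ (Jr * ρ a⁻¹ * Jr) (Jr * ρ h * Jr)
    have e1 := hcyc (ρ a⁻¹) (ρ h)
    rw [e1, hcd] at h2
    have e2 : ∀ g, LinearMap.trace ℂ _ (Jr * ρ g⁻¹ * Jr * ρ h) =
        LinearMap.trace ℂ _ (ρ g⁻¹ * (Jr * ρ h * Jr)) := fun g => by
      simp only [mul_assoc]
      rw [LinearMap.trace_mul_comm ℂ Jr]
      simp only [mul_assoc]
    simp only [← e2] at h2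
    rw [Finset.mul_sum] at h2
    have h3 : ∑ g, LinearMap.trace ℂ _ (Jr * ρ a⁻¹ * Jr * ρ g) *
        LinearMap.trace ℂ _ (Jr * ρ g⁻¹ * Jr * ρ h) =
        (c : ℂ) * LinearMap.trace ℂ _ (Jr * ρ a⁻¹ * Jr * ρ h) := by
      apply mul_left_cancel₀ hd0
      rw [Finset.mul_sum, h2]
      ring
    calc ∑ g, (c : ℂ)⁻¹ * LinearMap.trace ℂ _ (Jr * ρ a⁻¹ * Jr * ρ g) *
          ((c : ℂ)⁻¹ * LinearMap.trace ℂ _ (Jr * ρ g⁻¹ * Jr * ρ h))
        = (c : ℂ)⁻¹ * (c : ℂ)⁻¹ * ∑ g, LinearMap.trace ℂ _ (Jr * ρ a⁻¹ * Jr * ρ g) *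
            LinearMap.trace ℂ _ (Jr * ρ g⁻¹ * Jr * ρ h) := by
          rw [Finset.mul_sum]
          exact Finset.sum_congr rfl fun g _ => by ring
      _ = _ := by rw [h3]; field_simp
  letI := ModRep.resField hM
  haveI := ModRep.isAlgClosed_res hM
  have h1 := finrank_range_map_eq (locRing hM).subtype Subtype.val_injective (resHom hM) hE
  have hC : ((Module.finrank ℂ (LinearMap.range (Matrix.toLin' (E.map (locRing hM).subtype))) : ℕ) : ℂ)
      = (m : ℂ) * m := by
    have hproj : IsIdempotentElem (Matrix.toLin' (E.map (locRing hM).subtype)) := by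
      show Matrix.toLin' _ * Matrix.toLin' _ = _
      rw [Module.End.mul_eq_comp, ← Matrix.toLin'_mul, ← Matrix.map_mul, hE]
    rw [← (LinearMap.IsIdempotentElem.isProj_range _ hproj).trace, Matrix.trace_toLin'_eq,
      Matrix.trace]
    simp only [Matrix.diag, Matrix.map_apply, E, Matrix.of_apply, Subring.coe_subtype, hKval]
    have h2 := casimir_one ρ Jr Jr
    rw [hcd, htm] at h2
    have h3 : ∑ g, LinearMap.trace ℂ _ (Jr * ρ g⁻¹ * Jr * ρ g) = (c : ℂ) * (m * m) := by
      apply mul_left_cancel₀ hd0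
      rw [← Equiv.sum_comp (Equiv.inv Q) (fun g => LinearMap.trace ℂ _ (Jr * ρ g⁻¹ * Jr * ρ g))]
      simp only [Equiv.inv_apply, inv_inv]
      simp only [← mul_assoc] at h2
      rw [h2]
      ring
    rw [← Finset.mul_sum, h3, ← mul_assoc, inv_mul_cancel₀ hc0, one_mul]
  have hle : Module.finrank (Res M) (LinearMap.range (Matrix.toLin' (E.map (resHom hM)))) ≤ 1 := by
    have hv : E.map (resHom hM) = Matrix.vecMulVec
        (fun a => res M (c : ℂ)⁻¹ * tau hM j (el hM (s a⁻¹)) *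
          res M (trL hM (fun g => (ψ : Q → ℂ) (φ g)) j))
        (fun h => tau hM j (el hM (s h))) := by
      ext a h
      obtain ⟨-, hR, hres, -, -⟩ := res_trL_corner_mul hψ' hj (el hM (s a⁻¹)) (el hM (s h))
      rw [Matrix.map_apply, Matrix.vecMulVec_apply, resHom_apply]
      show res M ((c : ℂ)⁻¹ * trL hM _ (K a h)) = _
      rw [res_mul hM hcR hR, hres]
      ring
    rw [hv, Matrix.toLin'_apply']
    exact Matrix.rank_vecMulVec_le _ _
  rw [h1] at hle
  have hmm : Module.finrank ℂ (LinearMap.range (Matrix.toLin' (E.map (locRing hM).subtype))) = m * m := by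
    exact_mod_cast hC
  rw [hmm] at hle
  rcases Nat.le_one_iff_eq_zero_or_eq_one.1 hle with h | h
  · exact Or.inl (by rw [hm', Nat.mul_self_inj.1 (h.trans (mul_zero 0).symm), Nat.cast_zero])
  · exact Or.inr (by rw [hm', Nat.eq_one_of_mul_eq_one_right h, Nat.cast_one])

theorem trL_eq_of_defect_zero (hφ : Function.Surjective φ) {ψ : IrrCharacter Q}
    (hdz : (charDegree (ψ : Q → ℂ)).factorization p = (Nat.card Q).factorization p)
    {j l : Loc hM G} (hj : IsPrim (hM := hM) ⊥ j) (hl : IsPrim (hM := hM) ⊥ l)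
    (h1 : trL hM (fun g => (ψ : Q → ℂ) (φ g)) j = 1)
    (h2 : trL hM (fun g => (ψ : Q → ℂ) (φ g)) l = 1) :
    ∃ a b : Loc hM G, j * a = a ∧ a * l = a ∧ l * b = b ∧ b * j = b ∧ a * b = j ∧ b * a = l := by
  classical
  have := Fintype.ofFinite Q
  have hψ' := Char.IsIrrCharacter.isCharacter (Char.IsIrrCharacter.comp_surjective ψ.2 φ hφ)
  have hcl := Char.IsCharacter.isClassFunction hψ'
  have hbot : ∀ a : Loc hM G, Fixed ⊥ a := fun a u hu => by rw [Subgroup.mem_bot.1 hu, cj_one]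
  obtain ⟨c, hc, hpc⟩ := exists_cofactor hdz
  obtain ⟨d, ρ, hirr, hρ⟩ := ψ.2
  haveI := hirr
  have hd : charDegree (ψ : Q → ℂ) = d := by
    apply Nat.cast_injective (R := ℂ)
    rw [charDegree_cast, ← hρ, Representation.char_one, Module.finrank_fintype_fun_eq_card,
      Fintype.card_fin]
  have hd0 : (d : ℂ) ≠ 0 := Nat.cast_ne_zero.2 (hd ▸ (charDegree_pos ψ).ne')
  have hcd : (Nat.card Q : ℂ) = d * c := by rw [← hd, ← Nat.cast_mul, hc]
  obtain ⟨s, hs⟩ := hφ.hasRightInverse
  let A : Q → Loc hM G := fun q => j * el hM (s q) * l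
  let B : Q → Loc hM G := fun q => l * el hM (s q⁻¹) * j
  have hab : ∀ q, A q * B q = j * (el hM (s q) * l * el hM (s q⁻¹)) * j := fun q => by
    simp only [A, B, mul_assoc]
    rw [← mul_assoc l l, hl.2.1]
  have htr : ∀ x : Loc hM G, trL hM (fun g => (ψ : Q → ℂ) (φ g)) x =
      LinearMap.trace ℂ _ (ρ.asAlgebraHom (inc hM (mapL hM φ x))) := fun x => by
    rw [trL_comp, trL, ← hρ, tr_eq_trace]
  have hel : ∀ q, ρ.asAlgebraHom (inc hM (el hM q)) = ρ q := fun q => by simp [inc, el]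
  have hsum : ∑ q, trL hM (fun g => (ψ : Q → ℂ) (φ g)) (A q * B q) = c := by
    apply mul_left_cancel₀ hd0
    have h := casimir_one ρ (ρ.asAlgebraHom (inc hM (mapL hM φ j)))
      (ρ.asAlgebraHom (inc hM (mapL hM φ l)))
    rw [← htr, ← htr, h1, h2, hcd, mul_one, mul_one] at h
    refine (Eq.trans ?_ h)
    congr 1
    refine Finset.sum_congr rfl fun q _ => ?_
    rw [hab, trL_mul_comm hM hcl, ← mul_assoc, hj.2.1, htr]
    simp only [map_mul, mapL_el, hs _, hel, mul_assoc]
  obtain ⟨q, hq⟩ : ∃ q, tau hM j (el hM (s q) * l * el hM (s q⁻¹)) ≠ 0 := by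
    by_contra hno
    push Not at hno
    refine not_memI_natCast hM hpc ?_
    rw [← hsum]
    refine memI_sum hM _ fun q _ => ?_
    obtain ⟨-, -, -, hR, hres⟩ := res_trL_corner_mul hψ' hj
      (el hM (s q) * l * el hM (s q⁻¹)) 1
    rw [hab, ← res_eq_zero_iff hM hR, hres, hno, zero_mul]
  have hne : tau hM j (A q * B q) ≠ 0 := by
    rw [hab, tau_congr hM (y := el hM (s q) * l * el hM (s q⁻¹))]
    · exact hq
    · simp only [← mul_assoc, hj.2.1]
      simp only [mul_assoc, hj.2.1]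
  have ha1 : j * A q = A q := by simp only [A, ← mul_assoc, hj.2.1]
  have ha2 : A q * l = A q := by simp only [A, mul_assoc, hl.2.1]
  have hb1 : l * B q = B q := by simp only [B, ← mul_assoc, hl.2.1]
  have hb2 : B q * j = B q := by simp only [B, mul_assoc, hj.2.1]
  obtain ⟨b', -, hb1', hb2', hab', hba'⟩ :=
    exists_assoc_of_tau hM hj hl (hbot _) (hbot _) ha1 ha2 hb1 hb2 hne
  exact ⟨A q, b', ha1, ha2, hb1', hb2', hab', hba'⟩

end Cfsg.Agent.EqualDegree
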