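import Cfsg.Agent.Lib.Blocks.Defect
import Cfsg.Agent.Lib.Ito.Basic
import Cfsg.Agent.Lib.CentralChar.Twist
import Mathlib.Algebra.Module.ZMod
import Mathlib.LinearAlgebra.Dual.Lemmas

/-!
# Degrees over a normal defect group; additive maps of elementary abelian groups

* `factorization_degree`: a character of the block trivial on a normal `K ≤ D` with `D ⧸ K`
  abelian has degree with `p`-part that of `|G : D|`;
* `exists_additive_ne`: additive maps into a field of characteristic `p` separate the points of an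
  elementary abelian `p`-group.
-/

set_option autoImplicit false
set_option linter.unusedSectionVars false

namespace Cfsg.Agent.EqualDegree

open Cfsg Cfsg.Agent.Blocks

variable {G : Type*} [Group G] [Finite G] {p : ℕ} [Fact p.Prime] {M : Ideal AlgInt}

theorem factorization_degree (hM : IsPModular p M) {B : Set (IrrCharacter G)} {D K : Subgroup G}
    [D.Normal] [K.Normal] (hD : IsDefectGroup p M B D) (hKD : K ≤ D)
    (hab : ∀ a ∈ D, ∀ b ∈ D, a * b * a⁻¹ * b⁻¹ ∈ K) {χ : IrrCharacter G} (hχ : χ ∈ B)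
    (htriv : ∀ n ∈ K, (χ : G → ℂ) n = (χ : G → ℂ) 1) :
    (charDegree (χ : G → ℂ)).factorization p = D.index.factorization p := by
  have hp : p.Prime := Fact.out
  refine le_antisymm ?_ ?_
  · obtain ⟨ψ, hψ⟩ := CentralChar.exists_deflation K χ htriv
    have hsurj := QuotientGroup.mk'_surjective K
    haveI : (D.map (QuotientGroup.mk' K)).Normal := Subgroup.Normal.map inferInstance _ hsurj
    have hcomm : ∀ a ∈ D.map (QuotientGroup.mk' K), ∀ b ∈ D.map (QuotientGroup.mk' K),
        a * b = b * a := by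
      rintro _ ⟨a, ha, rfl⟩ _ ⟨b, hb, rfl⟩
      rw [← mul_inv_eq_iff_eq_mul, ← mul_inv_eq_one, ← map_mul, ← map_inv, ← map_mul, ← map_inv,
        ← map_mul]
      exact (QuotientGroup.eq_one_iff _).2 (hab a ha b hb)
    obtain ⟨n, -, hn, hdvd⟩ := Ito.exists_degree_dvd_index ψ.2 _ hcomm
    have he : charDegree (χ : G → ℂ) = n := by
      apply Nat.cast_injective (R := ℂ)
      rw [charDegree_cast, hψ 1, ← hn]
      rfl
    rw [he]
    refine (Nat.factorization_le_iff_dvd (he ▸ (charDegree_pos χ).ne')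
      Subgroup.index_ne_zero_of_finite).2 ?_ p
    rwa [D.index_map_eq hsurj (by rw [QuotientGroup.ker_mk']; exact hKD)] at hdvd
  · refine (hp.pow_dvd_iff_le_factorization (charDegree_pos χ).ne').1
      (pow_dvd_charDegree hM hχ hD ?_)
    rw [← D.index_mul_card]
    exact mul_dvd_mul_right (Nat.ordProj_dvd _ _) _

theorem exists_dual_ne {W : Type*} [AddCommGroup W] [Module (ZMod p) W] {v : W} (hv : v ≠ 0) :
    ∃ f : W →+ ZMod p, f v ≠ 0 := by
  let b := Module.Basis.ofVectorSpace (ZMod p) W
  obtain ⟨i, hi⟩ : ∃ i, b.repr v i ≠ 0 := by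
    by_contra h
    push Not at h
    exact hv (b.repr.injective (by rw [map_zero]; exact Finsupp.ext h))
  exact ⟨(b.coord i).toAddMonoidHom, hi⟩

theorem exists_additive_ne {k : Type*} [Field k] [CharP k p] {Q : Type*} [Group Q]
    (V : Subgroup Q) (hab : ∀ a ∈ V, ∀ b ∈ V, a * b = b * a) (hpow : ∀ a ∈ V, a ^ p = 1) {x y : Q}
    (hx : x ∈ V) (hy : y ∈ V) (hne : x ≠ y) :
    ∃ L : Q → k, (∀ a ∈ V, ∀ b ∈ V, L (a * b) = L a + L b) ∧ L x ≠ L y := by
  classical
  letI : CommGroup V := { (inferInstance : Group V) with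
    mul_comm := fun a b => Subtype.ext (hab a a.2 b b.2) }
  letI : Module (ZMod p) (Additive V) := AddCommGroup.zmodModule fun a => by
    apply Additive.toMul.injective
    rw [toMul_nsmul, toMul_zero]
    exact Subtype.ext (hpow _ (Additive.toMul a).2)
  have hd : Additive.ofMul (⟨x, hx⟩ : V) - Additive.ofMul (⟨y, hy⟩ : V) ≠ 0 := by
    rw [sub_ne_zero]
    exact fun h => hne (congrArg Subtype.val (Additive.ofMul.injective h))
  obtain ⟨f, hf⟩ := exists_dual_ne (p := p) hd
  refine ⟨fun z => if h : z ∈ V then ZMod.castHom dvd_rfl k (f (Additive.ofMul ⟨z, h⟩)) else 0,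
    fun a ha b hb => ?_, ?_⟩
  · simp only [dif_pos ha, dif_pos hb, dif_pos (V.mul_mem ha hb)]
    rw [← map_add, ← map_add]
    rfl
  · simp only [dif_pos hx, dif_pos hy]
    intro h
    refine hf ?_
    rw [map_sub, sub_eq_zero]
    exact (ZMod.castHom dvd_rfl k).injective h

end Cfsg.Agent.EqualDegree
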