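import Cfsg.Agent.Lib.BrauerPairs.GroupRing
import Cfsg.Agent.EqLemmas

/-!
# First derivatives along a central elementary `p`-subgroup

`lam_invariant`: let `V` be a normal `p`-subgroup of `Q`, central in `H ≤ T`, where `T ⧸ H` has
order prime to `p` and acts faithfully on `V`. If the augmentation ideal of `V` is, in the corner
of an idempotent `e` of `H` fixed by `T`, generated by central elements, and the central elements
of `H ⧸ V` are unchanged by `T` up to nilpotents on the image of `e`, then every additive map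
`V → k` is fixed by `T`.
-/

set_option autoImplicit false
set_option linter.unusedSectionVars false
set_option linter.style.haveILetI false
set_option maxHeartbeats 1000000

namespace Cfsg.Agent.EqualDegree

open Cfsg.Agent.BrauerPairs

variable {k : Type*} [Field k] {p : ℕ} [Fact p.Prime] [CharP k p]

theorem sum_eq_zero_of_shift {V : Type*} [Group V] [Fintype V] (hV : IsPGroup p V) {u : V}
    (hu : u ≠ 1) (f : V → k) (hf : ∀ v, f (v * u) = f v) : ∑ v, f v = 0 := by
  classical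
  set Z := Subgroup.zpowers u
  have hz : ∀ (z : Z) (v : V), f (v * z) = f v := by
    intro z v
    obtain ⟨n, hn⟩ := Subgroup.mem_zpowers_iff.1 z.2
    rw [← hn]
    clear hn
    induction n with
    | zero => simp
    | succ i ih => rw [zpow_add_one, ← mul_assoc, hf, ih]
    | pred i ih =>
      rw [zpow_sub_one, ← mul_assoc, ← hf (v * u ^ (-(i : ℤ)) * u⁻¹), inv_mul_cancel_right, ih]
  have hcard : (Nat.card Z : k) = 0 := by
    rw [CharP.cast_eq_zero_iff k p, Nat.card_zpowers]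
    obtain ⟨n, hn⟩ := IsPGroup.iff_orderOf.1 hV u
    rcases n with _ | n
    · exact absurd (orderOf_eq_one_iff.1 (by simpa using hn)) hu
    · exact hn ▸ dvd_pow_self p n.succ_ne_zero
  rw [← (Subgroup.groupEquivQuotientProdSubgroup (s := Z)).symm.sum_comp, Fintype.sum_prod_type]
  refine Finset.sum_eq_zero fun q _ => ?_
  rw [Finset.sum_congr rfl (g := fun _ => f q.out), Finset.sum_const, Finset.card_univ,
    ← Nat.card_eq_fintype_card, nsmul_eq_mul, hcard, zero_mul]
  intro z _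
  set w := (Subgroup.groupEquivQuotientProdSubgroup (s := Z)).symm (q, z)
  have hw : q.out⁻¹ * w ∈ Z := by
    rw [← QuotientGroup.eq, QuotientGroup.out_eq']
    exact (congrArg Prod.fst
      ((Subgroup.groupEquivQuotientProdSubgroup (s := Z)).apply_symm_apply (q, z))).symm
  have := hz ⟨_, hw⟩ q.out
  rwa [mul_inv_cancel_left] at this

theorem isNilpotent_sum_mul {R : Type*} [Ring R] {ι : Type*} (s : Finset ι) (n b : ι → R)
    (hn : ∀ i ∈ s, IsNilpotent (n i)) (hnb : ∀ i ∈ s, ∀ j ∈ s, Commute (n i) (b j))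
    (hnn : ∀ i ∈ s, ∀ j ∈ s, Commute (n i) (n j)) : IsNilpotent (∑ i ∈ s, n i * b i) := by
  classical
  induction s using Finset.induction_on with
  | empty => simp
  | insert i s hi ih =>
    rw [Finset.sum_insert hi]
    set x := ∑ j ∈ s, n j * b j
    obtain ⟨m, hm⟩ := ih (fun j hj => hn j (Finset.mem_insert_of_mem hj))
      (fun j hj l hl => hnb j (Finset.mem_insert_of_mem hj) l (Finset.mem_insert_of_mem hl))
      (fun j hj l hl => hnn j (Finset.mem_insert_of_mem hj) l (Finset.mem_insert_of_mem hl))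
    have hI := Finset.mem_insert_self i s
    have hcx : Commute (n i) x := Commute.sum_right _ _ _ fun j hj =>
      (hnn i hI j (Finset.mem_insert_of_mem hj)).mul_right (hnb i hI j (Finset.mem_insert_of_mem hj))
    have key : ∀ l : ℕ, ∃ c, Commute (n i) c ∧ (n i * b i + x) ^ l = x ^ l + n i * c := by
      intro l
      induction l with
      | zero => exact ⟨0, Commute.zero_right _, by simp⟩
      | succ l ih' =>
        obtain ⟨c, hc, he⟩ := ih'
        refine ⟨x ^ l * b i + c * (n i * b i + x), ?_, ?_⟩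
        · exact ((hcx.pow_right l).mul_right (hnb i hI i hI)).add_right
            (hc.mul_right (((Commute.refl (n i)).mul_right (hnb i hI i hI)).add_right hcx))
        · rw [pow_succ, he, pow_succ, add_mul, mul_add, ← mul_assoc (x ^ l), ← (hcx.pow_right l).eq]
          simp only [mul_add, mul_assoc]
          abel
    obtain ⟨c, hc, he⟩ := key m
    rw [hm, zero_add] at he
    obtain ⟨l, hl⟩ := hn i hI
    exact ⟨m * l, by rw [pow_mul, he, hc.mul_pow, hl, zero_mul]⟩

variable {Q : Type*} [Group Q] [Fintype Q] (V : Subgroup Q) [V.Normal]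

/-- The push forward to the quotient. -/
noncomputable def push : MonoidAlgebra k Q →+* MonoidAlgebra k (Q ⧸ V) :=
  MonoidAlgebra.mapDomainRingHom k (QuotientGroup.mk' V)

theorem push_cj (t : Q) (y : MonoidAlgebra k Q) :
    push V (cj t y) = cj (t : Q ⧸ V) (push V y) := by
  induction y using MonoidAlgebra.induction_linear with
  | zero => simp
  | add a b ha hb => simp only [map_add, ha, hb]
  | single g r => simp [push, cj_single, MonoidAlgebra.mapDomainRingHom_apply]

theorem sum_push_mul (y : MonoidAlgebra k Q) (F : Q ⧸ V → k) [Fintype (Q ⧸ V)] :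
    ∑ q, (push V y).coeff q * F q = ∑ z, y.coeff z * F (z : Q ⧸ V) := by
  have h : (push V y).coeff.sum (fun q c => c * F q) = ∑ z, y.coeff z * F (z : Q ⧸ V) := by
    rw [push, MonoidAlgebra.mapDomainRingHom_apply, MonoidAlgebra.coeff_mapDomain,
      Finsupp.sum_mapDomain_index (fun _ => zero_mul _) (fun _ a b => add_mul a b _),
      Finsupp.sum_fintype _ _ (fun _ => zero_mul _)]
    rfl
  rw [← h, Finsupp.sum_fintype _ _ (fun _ => zero_mul _)]

theorem suppIn_push {H : Subgroup Q} {a : MonoidAlgebra k Q} (ha : SuppIn H a) :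
    SuppIn (H.map (QuotientGroup.mk' V)) (push V a) := by
  classical
  have := Fintype.ofFinite (Q ⧸ V)
  intro x hx
  have h := sum_push_mul V a (fun q => if q = x then 1 else 0)
  simp only [mul_ite, mul_one, mul_zero, Finset.sum_ite_eq', Finset.mem_univ, if_true] at h
  rw [h]
  refine Finset.sum_eq_zero fun z _ => ?_
  split_ifs with hz
  · exact ha z fun hzH => hx ⟨z, hzH, hz⟩
  · rfl

theorem sum_coset_eq_zero {y : MonoidAlgebra k Q} (hy : push V y = 0) (g : Q) [Fintype V] :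
    ∑ w : V, y.coeff ((w : Q) * g) = 0 := by
  classical
  have := Fintype.ofFinite (Q ⧸ V)
  have h := sum_push_mul V y (fun q => if q = (g : Q ⧸ V) then 1 else 0)
  rw [hy] at h
  simp only [MonoidAlgebra.coeff_zero, Finsupp.zero_apply, zero_mul, ite_self, Finset.sum_const_zero,
    mul_ite, mul_one, mul_zero] at h
  refine Eq.trans ?_ h.symm
  rw [← Finset.sum_filter]
  refine Finset.sum_nbij (fun w : V => (w : Q) * g) (fun w _ => ?_) (fun a _ b _ hab => ?_)
    (fun z hz => ?_) (fun _ _ => rfl)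
  · simp [QuotientGroup.mk_mul, (QuotientGroup.eq_one_iff (w : Q)).2 w.2]
  · exact Subtype.ext (mul_right_cancel hab)
  · simp only [Finset.coe_filter, Finset.mem_univ, true_and, Set.mem_setOf_eq] at hz
    refine ⟨⟨z * g⁻¹, ?_⟩, by simp, by simp⟩
    rw [← QuotientGroup.eq_one_iff, QuotientGroup.mk_mul, QuotientGroup.mk_inv, hz, mul_inv_cancel]

variable [Fintype V]

/-- The derivative along an additive map of `V`. -/
noncomputable def der (L : Q → k) (y : MonoidAlgebra k Q) : MonoidAlgebra k (Q ⧸ V) :=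
  MonoidAlgebra.ofCoeff (Finsupp.equivFunOnFinite.symm fun q =>
    ∑ v : V, y.coeff ((v : Q) * q.out) * L v)

theorem coeff_der (L : Q → k) (y : MonoidAlgebra k Q) (q : Q ⧸ V) :
    (der V L y).coeff q = ∑ v : V, y.coeff ((v : Q) * q.out) * L v := by simp [der]

variable {V}

theorem der_mk {L : Q → k} (hL : ∀ v ∈ V, ∀ w ∈ V, L (v * w) = L v + L w) {y : MonoidAlgebra k Q}
    (hy : push V y = 0) (g : Q) :
    (der V L y).coeff (g : Q ⧸ V) = ∑ v : V, y.coeff ((v : Q) * g) * L v := by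
  obtain ⟨w, hw⟩ := QuotientGroup.mk_out_eq_mul V g
  rw [coeff_der, hw]
  set u : V := ⟨g * w * g⁻¹, Subgroup.Normal.conj_mem ‹_› _ w.2 g⟩
  have hgw : g * (w : Q) = (u : Q) * g := by simp [u]
  rw [hgw]
  calc ∑ v : V, y.coeff ((v : Q) * ((u : Q) * g)) * L v
      = ∑ v : V, y.coeff ((v : Q) * g) * (L v - L u) := by
        refine Fintype.sum_equiv (Equiv.mulRight u) _ _ fun v => ?_
        simp only [Equiv.coe_mulRight, Subgroup.coe_mul, mul_assoc]
        rw [hL _ v.2 _ u.2, add_sub_cancel_right]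
    _ = _ := by
        simp only [mul_sub, Finset.sum_sub_distrib, ← Finset.sum_mul]
        rw [sum_coset_eq_zero V hy g, zero_mul, sub_zero]

theorem der_mul {L : Q → k} (hL : ∀ v ∈ V, ∀ w ∈ V, L (v * w) = L v + L w) {y : MonoidAlgebra k Q}
    (hy : push V y = 0) (a : MonoidAlgebra k Q) : der V L (y * a) = der V L y * push V a := by
  classical
  have := Fintype.ofFinite (Q ⧸ V)
  refine MonoidAlgebra.coeff_injective (Finsupp.ext fun q => ?_)
  rw [MonoidAlgebra.coeff_mul_apply_right, Finsupp.sum_fintype _ _ (fun _ => by simp), coeff_der]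
  rw [Finset.sum_congr rfl fun x _ => mul_comm ((der V L y).coeff (q * x⁻¹)) ((push V a).coeff x),
    sum_push_mul V a (fun x => (der V L y).coeff (q * x⁻¹))]
  have e : ∀ z : Q, (der V L y).coeff (q * (z : Q ⧸ V)⁻¹) =
      ∑ v : V, y.coeff ((v : Q) * (q.out * z⁻¹)) * L v := fun z => by
    rw [← der_mk hL hy]
    congr 1
    rw [QuotientGroup.mk_mul, QuotientGroup.out_eq', QuotientGroup.mk_inv]
  simp only [e, Finset.mul_sum]
  rw [Finset.sum_comm]
  refine Finset.sum_congr rfl fun v _ => ?_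
  rw [MonoidAlgebra.coeff_mul_apply_right, Finsupp.sum_fintype _ _ (fun _ => by simp), Finset.sum_mul]
  exact Finset.sum_congr rfl fun z _ => by rw [mul_assoc (v : Q)]; ring

theorem der_cj {L : Q → k} (hL : ∀ v ∈ V, ∀ w ∈ V, L (v * w) = L v + L w) {y : MonoidAlgebra k Q}
    (hy : push V y = 0) (t : Q) :
    der V L (cj t y) = cj (t : Q ⧸ V) (der V (fun v => L (t * v * t⁻¹)) y) := by
  refine MonoidAlgebra.coeff_injective (Finsupp.ext fun q => ?_)
  obtain ⟨g, rfl⟩ := QuotientGroup.mk_surjective q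
  have hL' : ∀ v ∈ V, ∀ w ∈ V, L (t * (v * w) * t⁻¹) = L (t * v * t⁻¹) + L (t * w * t⁻¹) :=
    fun v hv w hw => by
      rw [← hL _ (Subgroup.Normal.conj_mem ‹_› _ hv t) _ (Subgroup.Normal.conj_mem ‹_› _ hw t)]
      congr 1
      group
  rw [coeff_cj, der_mk hL (by rw [push_cj, hy, map_zero]), ← QuotientGroup.mk_inv,
    ← QuotientGroup.mk_mul, ← QuotientGroup.mk_mul, der_mk (L := fun v => L (t * v * t⁻¹)) hL' hy]
  refine (Fintype.sum_equiv (MulAut.conjNormal (H := V) t).toEquiv _ _ fun v => ?_).symm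
  simp only [MulEquiv.toEquiv_eq_coe, EquivLike.coe_coe, MulAut.conjNormal_apply, coeff_cj]
  congr 2
  group

theorem der_lin (L L' : Q → k) (y : MonoidAlgebra k Q) :
    der V (L - L') y = der V L y - der V L' y := by
  refine MonoidAlgebra.coeff_injective (Finsupp.ext fun q => ?_)
  simp [coeff_der, mul_sub, Finset.sum_sub_distrib]

theorem der_sum (L : Q → k) {ι : Type*} (s : Finset ι) (f : ι → MonoidAlgebra k Q) :
    der V L (∑ i ∈ s, f i) = ∑ i ∈ s, der V L (f i) := by
  refine MonoidAlgebra.coeff_injective (Finsupp.ext fun q => ?_)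
  simp only [coeff_der, MonoidAlgebra.coeff_sum, Finsupp.finsetSum_apply, Finset.sum_mul]
  exact Finset.sum_comm

theorem push_single_sub_one {v : Q} (hv : v ∈ V) :
    push V (MonoidAlgebra.single v (1 : k) - 1) = 0 := by
  have hv1 : push V (MonoidAlgebra.single v (1 : k)) = 1 := by
    rw [push, MonoidAlgebra.mapDomainRingHom_apply, MonoidAlgebra.mapDomain_single,
      show QuotientGroup.mk' V v = 1 from (QuotientGroup.eq_one_iff v).2 hv, MonoidAlgebra.one_def]
  rw [map_sub, map_one, hv1, sub_self]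

theorem der_single_sub_one {L : Q → k} (hL : ∀ v ∈ V, ∀ w ∈ V, L (v * w) = L v + L w) {v : Q}
    (hv : v ∈ V) : der V L (MonoidAlgebra.single v (1 : k) - 1) = MonoidAlgebra.single 1 (L v) := by
  classical
  have hL1 : L 1 = 0 := by
    have h := hL 1 V.one_mem 1 V.one_mem
    rw [one_mul] at h
    exact left_eq_add.1 h
  refine MonoidAlgebra.coeff_injective (Finsupp.ext fun q => ?_)
  obtain ⟨g, rfl⟩ := QuotientGroup.mk_surjective q
  rw [der_mk hL (push_single_sub_one hv)]
  simp only [MonoidAlgebra.one_def, MonoidAlgebra.coeff_sub, Finsupp.coe_sub, Pi.sub_apply,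
    MonoidAlgebra.coeff_single, Finsupp.single_apply, sub_mul, Finset.sum_sub_distrib, ite_mul,
    one_mul, zero_mul]
  by_cases hg : g ∈ V
  · rw [if_pos ((QuotientGroup.eq_one_iff g).2 hg).symm,
      Finset.sum_eq_single (⟨v * g⁻¹, V.mul_mem hv (V.inv_mem hg)⟩ : V)
        (fun w _ hw => if_neg fun h => hw (Subtype.ext (by simp [h])))
        (fun h => absurd (Finset.mem_univ _) h),
      if_pos (by simp), Finset.sum_eq_single (⟨g⁻¹, V.inv_mem hg⟩ : V)
        (fun w _ hw => if_neg fun h => hw (Subtype.ext (eq_inv_of_mul_eq_one_left h.symm)))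
        (fun h => absurd (Finset.mem_univ _) h),
      if_pos (by simp)]
    rw [hL v hv _ (V.inv_mem hg)]
    show L v + L g⁻¹ - L g⁻¹ = L v
    rw [add_sub_cancel_right]
  · have h1 : ¬ (1 : Q ⧸ V) = (g : Q ⧸ V) := fun h => hg ((QuotientGroup.eq_one_iff g).1 h.symm)
    rw [if_neg h1, Finset.sum_eq_zero, Finset.sum_eq_zero, sub_zero]
    · exact fun w _ => if_neg fun h => hg (by
        rw [eq_inv_of_mul_eq_one_right h.symm]; exact V.inv_mem w.2)
    · exact fun w _ => if_neg fun h => hg (by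
        rw [show g = (w : Q)⁻¹ * v by rw [h, inv_mul_cancel_left]]
        exact V.mul_mem (V.inv_mem w.2) hv)

section vanish

variable {T H : Subgroup Q}

theorem der_eq_zero_off (hV : IsPGroup p V) (hVT : V ≤ T) (hcomm : ∀ v ∈ V, ∀ w ∈ V, v * w = w * v)
    {L : Q → k} (hL : ∀ v ∈ V, ∀ w ∈ V, L (v * w) = L v + L w) {y : MonoidAlgebra k Q}
    (hy : Fixed T y) (hy0 : push V y = 0) {g : Q} (hg : g ∈ T) {n : ℕ} (hn : ¬ p ∣ n)
    (hgn : ∀ v ∈ V, g ^ n * v * (g ^ n)⁻¹ = v) {v₁ : Q} (hv₁ : v₁ ∈ V) (hne : g * v₁ * g⁻¹ ≠ v₁) :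
    (der V L y).coeff (g : Q ⧸ V) = 0 := by
  rw [der_mk hL hy0]
  let S : (Q → k) → k := fun μ => ∑ v : V, y.coeff ((v : Q) * g) * μ v
  show S L = 0
  have hconj : ∀ μ : Q → k, S (fun v => μ (g * v * g⁻¹)) = S μ := fun μ => by
    refine Fintype.sum_equiv (MulAut.conjNormal (H := V) g).toEquiv _ _ fun v => ?_
    simp only [MulEquiv.toEquiv_eq_coe, EquivLike.coe_coe, MulAut.conjNormal_apply,
      inv_mul_cancel_right]
    congr 1
    rw [← coeff_conj_of_fixed hy hg ((v : Q) * g)]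
    congr 1
    group
  have hpow : ∀ i : ℕ, ∀ μ : Q → k, S (fun v => μ (g ^ i * v * (g ^ i)⁻¹)) = S μ := by
    intro i
    induction i with
    | zero => intro μ; simp [S]
    | succ i ih =>
      intro μ
      rw [← ih μ, ← hconj (fun v => μ (g ^ i * v * (g ^ i)⁻¹))]
      have e : (fun v => μ (g ^ (i + 1) * v * (g ^ (i + 1))⁻¹)) =
          fun v => μ (g ^ i * (g * v * g⁻¹) * (g ^ i)⁻¹) := funext fun v => by
        congr 1
        rw [pow_succ]
        group
      rw [e]
  set μ : Q → k := fun v => ∑ i ∈ Finset.range n, L (g ^ i * v * (g ^ i)⁻¹) with hμ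
  have hμS : S μ = (n : k) * S L := by
    simp only [S, hμ, Finset.mul_sum]
    rw [Finset.sum_comm]
    refine (Finset.sum_congr rfl fun i _ => hpow i L).trans ?_
    rw [Finset.sum_const, Finset.card_range, nsmul_eq_mul]
    simp only [S, Finset.mul_sum]
  have hμadd : ∀ v ∈ V, ∀ w ∈ V, μ (v * w) = μ v + μ w := fun v hv w hw => by
    simp only [hμ, ← Finset.sum_add_distrib]
    refine Finset.sum_congr rfl fun i _ => ?_
    rw [← hL _ (Subgroup.Normal.conj_mem ‹_› _ hv _) _ (Subgroup.Normal.conj_mem ‹_› _ hw _)]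
    congr 1
    group
  have hμinv : ∀ v ∈ V, μ (g * v * g⁻¹) = μ v := fun v hv => by
    let f : ℕ → k := fun i => L (g ^ i * v * (g ^ i)⁻¹)
    show ∑ i ∈ Finset.range n, L (g ^ i * (g * v * g⁻¹) * (g ^ i)⁻¹) = ∑ i ∈ Finset.range n, f i
    rw [Finset.sum_congr rfl (g := fun i => f (i + 1)) fun i _ => by
      simp only [f, pow_succ]; congr 1; group]
    have h1 := Finset.sum_range_succ f n
    have h2 := Finset.sum_range_succ' f n
    have hf : f n = f 0 := by
      show L (g ^ n * v * (g ^ n)⁻¹) = L (g ^ 0 * v * (g ^ 0)⁻¹)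
      rw [hgn v hv]
      simp
    rw [h1, hf] at h2
    exact (add_right_cancel h2).symm
  have hvV : g * v₁⁻¹ * g⁻¹ ∈ V := Subgroup.Normal.conj_mem ‹_› _ (V.inv_mem hv₁) g
  set u : V := ⟨v₁ * (g * v₁⁻¹ * g⁻¹), V.mul_mem hv₁ hvV⟩
  have hu : u ≠ 1 := fun h => hne (by
    have h1 : v₁ * (g * v₁⁻¹ * g⁻¹) = 1 := congrArg Subtype.val h
    have h2 : v₁ = (g * v₁⁻¹ * g⁻¹)⁻¹ := eq_inv_of_mul_eq_one_left h1
    conv_rhs => rw [h2]
    group)
  have hμu : μ (u : Q) = 0 := by
    show μ (v₁ * (g * v₁⁻¹ * g⁻¹)) = 0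
    rw [hμadd _ hv₁ _ hvV, hμinv _ (V.inv_mem hv₁), ← hμadd _ hv₁ _ (V.inv_mem hv₁), mul_inv_cancel]
    have h := hμadd 1 V.one_mem 1 V.one_mem
    rw [one_mul] at h
    exact left_eq_add.1 h
  have h0 : S μ = 0 := by
    refine sum_eq_zero_of_shift (p := p) hV hu _ fun v => ?_
    rw [Subgroup.coe_mul, hμadd _ v.2 _ u.2, hμu, add_zero]
    congr 1
    rw [← coeff_conj_of_fixed hy (hVT hv₁) ((v : Q) * g)]
    congr 1
    show (v : Q) * (v₁ * (g * v₁⁻¹ * g⁻¹)) * g = v₁ * ((v : Q) * g) * v₁⁻¹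
    rw [← mul_assoc (v : Q) v₁, hcomm _ v.2 _ hv₁]
    group
  rw [hμS] at h0
  exact (mul_eq_zero.1 h0).resolve_left fun h => hn ((CharP.cast_eq_zero_iff k p n).1 h)

end vanish

theorem fixed_single {H : Subgroup Q} {v : Q} (hv : ∀ h ∈ H, h * v * h⁻¹ = v) :
    Fixed H (MonoidAlgebra.single v (1 : k) - 1) := fun h hh => by
  rw [map_sub, map_one, cj_single, hv h hh]

theorem single_mul_single_eq_cj (e : MonoidAlgebra k Q) (h : Q) (r : k) :
    MonoidAlgebra.single h r * e = cj h e * MonoidAlgebra.single h r := by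
  induction e using MonoidAlgebra.induction_linear with
  | zero => simp
  | add a b ha hb => simp only [map_add, mul_add, add_mul, ha, hb]
  | single g s =>
    rw [cj_single, MonoidAlgebra.single_mul_single, MonoidAlgebra.single_mul_single,
      inv_mul_cancel_right, mul_comm r s]

/-- Additive maps of `V` are fixed by `T`. -/
theorem lam_invariant (hV : IsPGroup p V) {T H : Subgroup Q} (hHT : H ≤ T) (hVH : V ≤ H)
    (hVc : ∀ h ∈ H, ∀ v ∈ V, h * v * h⁻¹ = v)
    (hTH : ∀ t ∈ T, ∃ n : ℕ, ¬ p ∣ n ∧ t ^ n ∈ H)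
    (hfaith : ∀ t ∈ T, t ∉ H → ∃ v ∈ V, t * v * t⁻¹ ≠ v)
    {e : MonoidAlgebra k Q} (heH : SuppIn H e) (heT : Fixed T e) (hee : e * e = e)
    (he0 : push V e ≠ 0) (hout : ∀ g, g ∉ T → e * cj g e = 0)
    (hgen : ∀ v ∈ V, ∃ (n : ℕ) (u a : Fin n → MonoidAlgebra k Q),
      (∀ i, push V (u i) = 0 ∧ Fixed ⊤ (u i)) ∧
        e * (MonoidAlgebra.single v (1 : k) - 1) * e = e * (∑ i, u i * a i) * e)
    (hnil : ∀ t ∈ T, ∀ F : MonoidAlgebra k (Q ⧸ V), SuppIn (H.map (QuotientGroup.mk' V)) F →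
      Fixed (H.map (QuotientGroup.mk' V)) F →
        IsNilpotent ((F - cj (t : Q ⧸ V) F) * push V e))
    {L : Q → k} (hL : ∀ v ∈ V, ∀ w ∈ V, L (v * w) = L v + L w)
    {t : Q} (ht : t ∈ T) {v : Q} (hv : v ∈ V) : L (t * v * t⁻¹) = L v := by
  classical
  have := Fintype.ofFinite (Q ⧸ V)
  have hcomm : ∀ a ∈ V, ∀ b ∈ V, a * b = b * a := fun a ha b hb =>
    mul_inv_eq_iff_eq_mul.1 (hVc a (hVH ha) b hb)
  set L0 : Q → k := L - fun w => L (t * w * t⁻¹) with hL0d
  have hLc : ∀ s : Q, ∀ a ∈ V, ∀ b ∈ V,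
      L (s * (a * b) * s⁻¹) = L (s * a * s⁻¹) + L (s * b * s⁻¹) := fun s a ha b hb => by
    rw [← hL _ (Subgroup.Normal.conj_mem ‹_› _ ha s) _ (Subgroup.Normal.conj_mem ‹_› _ hb s)]
    congr 1
    group
  have hL0 : ∀ a ∈ V, ∀ b ∈ V, L0 (a * b) = L0 a + L0 b := fun a ha b hb => by
    simp only [hL0d, Pi.sub_apply]
    rw [hL a ha b hb, hLc t a ha b hb]
    ring
  obtain ⟨n, u, a, hu, heq⟩ := hgen v hv
  set H₂ := H.map (QuotientGroup.mk' V)
  set E := push V e with hE
  have hEE : E * E = E := by rw [hE, ← map_mul, hee]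
  have hEH : SuppIn H₂ E := suppIn_push V heH
  have hEfix : Fixed H₂ E := by
    rintro _ ⟨h, hh, rfl⟩
    rw [hE, show (QuotientGroup.mk' V h : Q ⧸ V) = (h : Q ⧸ V) from rfl, ← push_cj, heT h (hHT hh)]
  set w : Fin n → MonoidAlgebra k Q := fun i => e * u i * e
  have hw0 : ∀ i, push V (w i) = 0 := fun i => by simp [w, map_mul, (hu i).1]
  have hwT : ∀ i, Fixed T (w i) := fun i => (heT.mul ((hu i).2.mono le_top)).mul heT
  have hwsupp : ∀ i, SuppIn T (w i) := fun i => by
    have hdec : u i = ∑ h, MonoidAlgebra.single h ((u i).coeff h) := by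
      ext x
      simp [MonoidAlgebra.coeff_sum, Finsupp.single_apply]
    show SuppIn T (e * u i * e)
    rw [hdec, Finset.mul_sum, Finset.sum_mul]
    refine SuppIn.sum _ fun h _ => ?_
    rw [mul_assoc, single_mul_single_eq_cj, ← mul_assoc]
    by_cases hh : h ∈ T
    · rw [heT h hh, hee]
      refine (heH.mono hHT).mul ?_
      intro x hx
      rw [MonoidAlgebra.coeff_single, Finsupp.single_eq_of_ne]
      exact fun hxh => hx (hxh ▸ hh)
    · rw [hout h hh, zero_mul]
      exact SuppIn.zero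
  set F : Fin n → MonoidAlgebra k (Q ⧸ V) := fun i => der V L (w i)
  have hFfix : ∀ i, Fixed H₂ (F i) := by
    rintro i _ ⟨h, hh, rfl⟩
    have h1 := der_cj hL (hw0 i) h
    rw [hwT i h (hHT hh)] at h1
    have h2 : der V (fun z => L (h * z * h⁻¹)) (w i) = F i := by
      refine MonoidAlgebra.coeff_injective (Finsupp.ext fun q => ?_)
      rw [coeff_der, coeff_der]
      exact Finset.sum_congr rfl fun z _ => by rw [hVc h hh z z.2]
    rw [h2] at h1
    exact h1.symm
  have hFsupp : ∀ i, SuppIn H₂ (F i) := by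
    intro i q hq
    obtain ⟨g, rfl⟩ := QuotientGroup.mk_surjective q
    have hgH : g ∉ H := fun h => hq ⟨g, h, rfl⟩
    by_cases hgT : g ∈ T
    · obtain ⟨m, hm, hgm⟩ := hTH g hgT
      obtain ⟨v₁, hv₁, hne⟩ := hfaith g hgT hgH
      exact der_eq_zero_off hV (hVH.trans hHT) hcomm hL (hwT i) (hw0 i) hgT hm
        (fun z hz => hVc _ hgm z hz) hv₁ hne
    · rw [der_mk hL (hw0 i)]
      refine Finset.sum_eq_zero fun z _ => ?_
      rw [hwsupp i _ fun h => hgT ((T.mul_mem_cancel_left (hHT (hVH z.2))).1 h), zero_mul]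
  set F0 : Fin n → MonoidAlgebra k (Q ⧸ V) := fun i => der V L0 (w i)
  have hF0 : ∀ i, F0 i = F i - cj ((t⁻¹ : Q) : Q ⧸ V) (F i) := fun i => by
    have h1 := der_cj hL (hw0 i) t
    rw [hwT i t ht] at h1
    show der V (L - fun z => L (t * z * t⁻¹)) (w i) = _
    rw [der_lin]
    congr 1
    show _ = cj _ (der V L (w i))
    rw [h1, QuotientGroup.mk_inv, cj_inv_cj]
  have hnorm : ∀ i, Fixed H₂ (F0 i) ∧ SuppIn H₂ (F0 i) := by
    intro i
    have hconj : ∀ s ∈ T, ∀ x ∈ H, s * x * s⁻¹ ∈ H := by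
      intro s hs x hx
      by_contra hnot
      obtain ⟨z, hz, hne⟩ := hfaith _ (T.mul_mem (T.mul_mem hs (hHT hx)) (T.inv_mem hs)) hnot
      refine hne ?_
      have h1 := hVc x hx (s⁻¹ * z * s⁻¹⁻¹) (Subgroup.Normal.conj_mem ‹_› _ hz s⁻¹)
      calc s * x * s⁻¹ * z * (s * x * s⁻¹)⁻¹ = s * (x * (s⁻¹ * z * s⁻¹⁻¹) * x⁻¹) * s⁻¹ := by group
        _ = z := by rw [h1]; group
    rw [hF0]
    refine ⟨fun x hx => ?_, fun q hq => ?_⟩
    · rw [map_sub, hFfix i x hx, ← cj_mul]
      obtain ⟨h, hh, rfl⟩ := hx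
      have hm : QuotientGroup.mk' V (t * h * t⁻¹) ∈ H₂ := ⟨_, hconj t ht h hh, rfl⟩
      have h1 : QuotientGroup.mk' V h * ((t⁻¹ : Q) : Q ⧸ V) =
          ((t⁻¹ : Q) : Q ⧸ V) * QuotientGroup.mk' V (t * h * t⁻¹) := by
        simp only [QuotientGroup.mk'_apply, ← QuotientGroup.mk_mul]
        congr 1
        group
      rw [h1, cj_mul, hFfix i _ hm]
    · rw [MonoidAlgebra.coeff_sub, Finsupp.sub_apply, hFsupp i q hq, coeff_cj, hFsupp i _, sub_zero]
      rintro ⟨h, hh, hhq⟩
      refine hq ⟨t⁻¹ * h * t⁻¹⁻¹, hconj t⁻¹ (T.inv_mem ht) h hh, ?_⟩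
      rw [map_mul, map_mul, hhq, map_inv]
      simp only [QuotientGroup.mk'_apply, QuotientGroup.mk_inv]
      group
  -- the derivative of the generation
  have heq' : L0 v • E = ∑ i, F0 i * push V (a i * e) := by
    have hev : e * (MonoidAlgebra.single v (1 : k) - 1) * e =
        (MonoidAlgebra.single v (1 : k) - 1) * e := by
      rw [← (fixed_single fun h hh => hVc h hh v hv).commute heH, mul_assoc, hee]
    have hRHS : e * (∑ i, u i * a i) * e = ∑ i, w i * (a i * e) := by
      rw [Finset.mul_sum, Finset.sum_mul]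
      refine Finset.sum_congr rfl fun i _ => ?_
      have hc : u i * e = e * u i := (hu i).2.commute SuppIn.top
      show e * (u i * a i) * e = e * u i * e * (a i * e)
      calc e * (u i * a i) * e = e * u i * (a i * e) := by simp only [mul_assoc]
        _ = e * u i * e * (a i * e) := by rw [mul_assoc e (u i) e, hc, ← mul_assoc e e, hee]
    rw [hev, hRHS] at heq
    have h1 := congrArg (der V L0) heq
    rw [der_mul hL0 (push_single_sub_one hv), der_single_sub_one hL0 hv, der_sum,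
      Finset.sum_congr rfl fun i _ => der_mul hL0 (hw0 i) (a i * e)] at h1
    rw [← h1]
    refine MonoidAlgebra.coeff_injective (Finsupp.ext fun q => ?_)
    simp [MonoidAlgebra.coeff_single_mul_apply, hE]
  let pr : MonoidAlgebra k (Q ⧸ V) → MonoidAlgebra k (Q ⧸ V) := fun b =>
    MonoidAlgebra.ofCoeff (Finsupp.equivFunOnFinite.symm fun q => if q ∈ H₂ then b.coeff q else 0)
  have hprS : ∀ b, SuppIn H₂ (pr b) := fun b q hq => by simp [pr, hq]
  have hpr : ∀ (x b : MonoidAlgebra k (Q ⧸ V)), SuppIn H₂ x → ∀ q ∈ H₂,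
      (x * b).coeff q = (x * pr b).coeff q := by
    intro x b hx q hq
    rw [MonoidAlgebra.coeff_mul_apply_left, MonoidAlgebra.coeff_mul_apply_left,
      Finsupp.sum_fintype _ _ (fun _ => by simp), Finsupp.sum_fintype _ _ (fun _ => by simp)]
    refine Finset.sum_congr rfl fun y _ => ?_
    by_cases hy : y ∈ H₂
    · simp [pr, H₂.mul_mem (H₂.inv_mem hy) hq]
    · simp [hx y hy]
  set N0 : Fin n → MonoidAlgebra k (Q ⧸ V) := fun i => F0 i * E
  have heq2 : L0 v • E = ∑ i, N0 i * pr (push V (a i * e)) := by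
    have h1 : L0 v • E = ∑ i, N0 i * push V (a i * e) := by
      conv_lhs => rw [← hEE, ← mul_smul_comm, heq', Finset.mul_sum]
      exact Finset.sum_congr rfl fun i _ => by
        rw [← mul_assoc, ← (hnorm i).1.commute hEH]
    refine MonoidAlgebra.coeff_injective (Finsupp.ext fun q => ?_)
    by_cases hq : q ∈ H₂
    · rw [h1, MonoidAlgebra.coeff_sum, MonoidAlgebra.coeff_sum, Finsupp.finsetSum_apply,
        Finsupp.finsetSum_apply]
      exact Finset.sum_congr rfl fun i _ => hpr _ _ ((hnorm i).2.mul hEH) q hq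
    · rw [MonoidAlgebra.coeff_smul, Finsupp.smul_apply, hEH q hq, smul_zero]
      exact ((SuppIn.sum _ fun i _ => (((hnorm i).2.mul hEH).mul (hprS _))) q hq).symm
  have hnilp : IsNilpotent (L0 v • E) := by
    rw [heq2]
    refine isNilpotent_sum_mul _ _ _ (fun i _ => ?_) (fun i _ j _ => ?_) (fun i _ j _ => ?_)
    · show IsNilpotent (F0 i * E)
      rw [hF0]
      exact hnil _ (T.inv_mem ht) _ (hFsupp i) (hFfix i)
    · exact ((hnorm i).1.mul hEfix).commute (hprS _)
    · exact ((hnorm i).1.mul hEfix).commute ((hnorm j).2.mul hEH)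
  obtain ⟨m, hm⟩ := hnilp
  have hpow : (L0 v • E) ^ (m + 1) = (L0 v) ^ (m + 1) • E := by
    rw [smul_pow, (show IsIdempotentElem E from hEE).pow_succ_eq]
  rw [pow_succ (L0 v • E), hm, zero_mul] at hpow
  rcases smul_eq_zero.1 hpow.symm with h | h
  · have h0 := pow_eq_zero_iff (Nat.succ_ne_zero m) |>.1 h
    simp only [hL0d, Pi.sub_apply] at h0
    exact (sub_eq_zero.1 h0).symm
  · exact absurd h he0

end Cfsg.Agent.EqualDegree
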