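import Cfsg.Agent.Lib.Blocks.EqualDegree.Core
import Cfsg.Agent.Lib.Blocks.EqualDegree.Derivation
import Cfsg.Agent.Lib.Blocks.EqualDegree.Degrees
import Cfsg.Agent.Lib.Coprime.Frattini
import Cfsg.Agent.Lib.Cores.Basic
import Cfsg.Agent.Lib.PGroup.Basic
import Cfsg.Agent.Lib.BrauerPairs.Correspondence
import Cfsg.Agent.Lib.BlocksNormal.Basic
import Cfsg.Agent.Lib.Star.Nilpotent
import Cfsg.Agent.Lib.SecondMain.Rank

/-!
# Okuyama–Tsushima: equal degrees of the height zero characters over a normal defect group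

* `isNilpotentBlock_of_degree`: for a normal defect group, if all characters of height zero have
  one degree the block is nilpotent;
* `degree_of_nilpotent`: in a nilpotent block all characters of height zero have one degree.
-/

set_option autoImplicit false
set_option linter.unusedSectionVars false
set_option linter.style.haveILetI false
set_option maxHeartbeats 1000000

namespace Cfsg.Agent.EqualDegree

open Cfsg Cfsg.Agent.Blocks Cfsg.Agent.BrauerPairs Cfsg.Agent.Star Cfsg.Agent.SecondMain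
open scoped commutatorElement

variable {G : Type*} [Group G] [Finite G] {p : ℕ} [Fact p.Prime] {M : Ideal AlgInt}

theorem rd_mapL {Q : Type*} [Group Q] [Finite Q] (hM : IsPModular p M) (φ : G →* Q)
    (x : Loc hM G) :
    rd hM (mapL hM φ x) = MonoidAlgebra.mapDomainRingHom (Res M) φ (rd hM x) := by
  induction x using MonoidAlgebra.induction_linear with
  | zero => simp
  | add a b ha hb => simp only [map_add, ha, hb]
  | single g r => simp [mapL_single, rd, MonoidAlgebra.mapDomainRingHom_apply]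

theorem map_cj {k : Type*} [CommRing k] {Q : Type*} [Group Q] (φ : G →* Q) (t : G)
    (y : MonoidAlgebra k G) :
    MonoidAlgebra.mapDomainRingHom k φ (cj t y) =
      cj (φ t) (MonoidAlgebra.mapDomainRingHom k φ y) := by
  induction y using MonoidAlgebra.induction_linear with
  | zero => simp
  | add a b ha hb => simp only [map_add, ha, hb]
  | single g r => simp [cj_single, MonoidAlgebra.mapDomainRingHom_apply]

theorem suppIn_map {k : Type*} [CommRing k] {Q : Type*} [Group Q] (φ : G →* Q) {H : Subgroup G}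
    {y : MonoidAlgebra k G} (hy : SuppIn H y) :
    SuppIn (H.map φ) (MonoidAlgebra.mapDomainRingHom k φ y) := by
  intro x hx
  simp only [MonoidAlgebra.mapDomainRingHom_apply, MonoidAlgebra.coeff_mapDomain, Finsupp.mapDomain,
    Finsupp.sum, Finsupp.finsetSum_apply]
  exact Finset.sum_eq_zero fun z hz => Finsupp.single_eq_of_ne fun h =>
    hx ⟨z, hy.mem_of_ne (Finsupp.mem_support_iff.1 hz), h.symm⟩

theorem isNilpotentBlock_of_degree (hM : IsPModular p M) {B : Set (IrrCharacter G)}
    (hB : IsPBlock M B) {D : Subgroup G} [D.Normal] (hD : IsDefectGroup p M B D) {d₀ : ℕ}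
    (hdeg : ∀ χ : IrrCharacter G, χ ∈ B → blockHeight p B (χ : G → ℂ) = 0 →
      charDegree (χ : G → ℂ) = d₀) :
    IsNilpotentBlock p M B := by
  classical
  have hp : p.Prime := Fact.out
  have := Fintype.ofFinite G
  haveI := res_charP hM
  obtain ⟨c, hc⟩ := exists_pair_of_defectGroup hM hB hD
  have hmax := isMaximal_of_isDefectGroup hM hc hD
  have hDp : IsPGroup p D := hc.1.1
  set T := pairStab M D c with hT
  set H := D ⊔ Subgroup.centralizer (D : Set G) with hH
  have hHT : H ≤ T := sup_le (le_pairStab D c) (centralizer_le_pairStab hM D c)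
  set K : Subgroup G := (frattini D).map D.subtype with hK
  haveI : K.Normal := Cores.map_subtype_normal_of_characteristic D _
  have hKD : K ≤ D := Subgroup.map_subtype_le _
  have hcomm : ∀ a ∈ D, ∀ b ∈ D, a * b * a⁻¹ * b⁻¹ ∈ K := fun a ha b hb =>
    ⟨⁅(⟨a, ha⟩ : D), (⟨b, hb⟩ : D)⁆, PGroup.commutatorElement_mem_frattini hDp _ _, rfl⟩
  have hpowK : ∀ a ∈ D, a ^ p ∈ K := fun a ha =>
    ⟨(⟨a, ha⟩ : D) ^ p, PGroup.pow_mem_frattini hDp _, rfl⟩
  -- the elements trivial on `D ⧸ K`
  let S : Subgroup G :=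
    { carrier := {g | ∀ d ∈ D, g * d * g⁻¹ * d⁻¹ ∈ K}
      one_mem' := fun d _ => by simp
      mul_mem' := fun {a b} ha hb d hd => by
        have h1 := ha (b * d * b⁻¹) (Subgroup.Normal.conj_mem ‹D.Normal› _ hd b)
        simpa [mul_assoc] using K.mul_mem h1 (hb d hd)
      inv_mem' := fun {a} ha d hd => by
        have h1 := ha (a⁻¹ * d * a) (by simpa using Subgroup.Normal.conj_mem ‹D.Normal› _ hd a⁻¹)
        simpa [mul_assoc] using K.inv_mem h1 }
  have hHS : H ≤ S := sup_le (fun a ha d hd => hcomm a ha d hd) fun a ha d hd => by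
    rw [← Subgroup.mem_centralizer_iff.1 ha d hd, mul_inv_cancel_right, mul_inv_cancel]
    exact K.one_mem
  -- regular elements trivial on `D ⧸ K` centralise `D`
  have hburn : ∀ t : G, IsPRegular p t → t ∈ S → t ∈ Subgroup.centralizer (D : Set G) := fun t htr htS => by
    refine Coprime.le_centralizer_of_forall_mem_frattini (A := Subgroup.zpowers t) (K := D)
      (fun x _ => mem_normalizer hM x) ?_ (fun a ha d hd => (Subgroup.zpowers_le.2 htS ha) d hd)
      (Subgroup.mem_zpowers t)
    obtain ⟨n, hn⟩ := IsPGroup.iff_card.1 (hDp.to_subgroup (frattini D))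
    rw [Nat.card_zpowers, hn]
    exact ((coprime_orderOf_iff t).2 htr).pow_right n
  suffices hfix : T ≤ S from
    isNilpotentBlock_of_regular hM hD hc fun t ht htr => hburn t htr (hfix ht)
  -- degrees
  have hlow : ∀ χ : IrrCharacter G, χ ∈ B →
      D.index.factorization p ≤ (charDegree (χ : G → ℂ)).factorization p := fun χ hχ =>
    (hp.pow_dvd_iff_le_factorization (charDegree_pos χ).ne').1
      (pow_dvd_charDegree hM hχ hD (by
        rw [← D.index_mul_card]
        exact mul_dvd_mul_right (Nat.ordProj_dvd _ _) _))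
  have hdegK : ∀ χ : IrrCharacter G, χ ∈ B → (∀ n ∈ K, (χ : G → ℂ) n = (χ : G → ℂ) 1) →
      charDegree (χ : G → ℂ) = d₀ := fun χ hχ htriv => by
    refine hdeg χ hχ ?_
    rw [blockHeight, Nat.sub_eq_zero_iff_le, factorization_degree hM hD hKD hcomm hχ htriv]
    refine le_csInf ⟨_, χ, hχ, rfl⟩ ?_
    rintro _ ⟨ψ, hψ, rfl⟩
    exact hlow ψ hψ
  have hdz : ∀ χ : IrrCharacter G, χ ∈ B → (∀ x ∈ D, (χ : G → ℂ) x = (χ : G → ℂ) 1) →
      (charDegree (χ : G → ℂ)).factorization p = (Nat.card (G ⧸ D)).factorization p := fun χ hχ h => by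
    rw [← Subgroup.index_eq_card]
    exact factorization_degree hM hD hKD hcomm hχ fun n hn => h n (hKD hn)
  -- the quotient by `K`
  set π := QuotientGroup.mk' K with hπ
  have hπs : Function.Surjective π := QuotientGroup.mk'_surjective K
  set V := D.map π with hV
  haveI : V.Normal := Subgroup.Normal.map inferInstance π hπs
  have := Fintype.ofFinite (G ⧸ K)
  have := Fintype.ofFinite V
  letI := ModRep.resField hM
  set e := MonoidAlgebra.mapDomainRingHom (Res M) π (cb M D c) with he
  let φ : G →* (G ⧸ K) ⧸ V := (QuotientGroup.mk' V).comp π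
  have hφs : Function.Surjective φ := (QuotientGroup.mk'_surjective V).comp hπs
  have hker : ∀ g, φ g = 1 ↔ g ∈ D := fun g => by
    refine (QuotientGroup.eq_one_iff (π g)).trans ⟨fun h => ?_, fun h => ⟨g, h, rfl⟩⟩
    obtain ⟨d, hd, hdg⟩ := h
    have h1 : d⁻¹ * g ∈ K := QuotientGroup.eq.1 hdg
    simpa using D.mul_mem hd (hKD h1)
  have hpushφ : ∀ y : MonoidAlgebra (Res M) G,
      push V (MonoidAlgebra.mapDomainRingHom (Res M) π y) =
        MonoidAlgebra.mapDomainRingHom (Res M) φ y := fun y => by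
    rw [push, ← RingHom.comp_apply, ← MonoidAlgebra.mapDomainRingHom_comp]
  have hndvd := not_dvd_relIndex' hM hmax
  set n₀ := H.relIndex T
  haveI : (H.subgroupOf T).Normal := inferInstance
  have hTn : ∀ t ∈ T, t ^ n₀ ∈ H := fun t ht => by
    have h := Subgroup.pow_index_mem (H.subgroupOf T) (⟨t, ht⟩ : T)
    rwa [Subgroup.mem_subgroupOf, Subgroup.coe_pow] at h
  intro t ht d hd
  by_contra hnot
  have hne : π (t * d * t⁻¹) ≠ π d := fun h => hnot (by
    have h1 := (QuotientGroup.eq.1 h.symm)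
    have h2 := Subgroup.Normal.conj_mem ‹K.Normal› _ h1 d
    simpa [mul_assoc] using h2)
  have habV : ∀ a ∈ V, ∀ b ∈ V, a * b = b * a := by
    rintro _ ⟨a, ha, rfl⟩ _ ⟨b, hb, rfl⟩
    rw [← mul_inv_eq_iff_eq_mul, ← mul_inv_eq_one, ← map_mul, ← map_inv, ← map_mul, ← map_inv,
      ← map_mul]
    exact (QuotientGroup.eq_one_iff _).2 (hcomm a ha b hb)
  have hpowV : ∀ a ∈ V, a ^ p = 1 := by
    rintro _ ⟨a, ha, rfl⟩
    rw [← map_pow]
    exact (QuotientGroup.eq_one_iff _).2 (hpowK a ha)
  obtain ⟨L, hL, hLne⟩ := exists_additive_ne (k := Res M) V habV hpowV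
    (⟨t * d * t⁻¹, Subgroup.Normal.conj_mem ‹D.Normal› _ hd t, rfl⟩ : π (t * d * t⁻¹) ∈ V)
    (⟨d, hd, rfl⟩ : π d ∈ V) hne
  refine hLne ?_
  rw [map_mul, map_mul, map_inv]
  refine lam_invariant (p := p) (V := V) (hDp.map π) (T := T.map π) (H := H.map π) (e := e)
    (Subgroup.map_mono hHT) (Subgroup.map_mono le_sup_left) ?_ ?_ ?_ (suppIn_map π
      ((bIdem_central _ c).1.mono le_sup_right)) ?_ ?_ ?_ ?_ ?_ ?_ hL ⟨t, ht, rfl⟩ ⟨d, hd, rfl⟩
  · -- `V` is central in the image of `H`
    rintro _ ⟨h, hh, rfl⟩ _ ⟨a, ha, rfl⟩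
    rw [← mul_inv_eq_one, ← map_mul, ← map_inv, ← map_mul, ← map_inv, ← map_mul]
    exact (QuotientGroup.eq_one_iff _).2 (hHS hh a ha)
  · rintro _ ⟨s, hs, rfl⟩
    exact ⟨n₀, hndvd, s ^ n₀, hTn s hs, map_pow π s n₀⟩
  · rintro _ ⟨s, hs, rfl⟩ hsH
    by_contra hall
    push Not at hall
    refine hsH ⟨s, ?_, rfl⟩
    have hsS : s ∈ S := fun a ha => by
      have h := hall (π a) ⟨a, ha, rfl⟩
      rw [← mul_inv_eq_one, ← map_mul, ← map_inv, ← map_mul, ← map_inv, ← map_mul] at h
      exact (QuotientGroup.eq_one_iff _).1 h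
    set a := (orderOf s).factorization p
    have h1 : s ^ (p ^ a) ∈ H := Subgroup.mem_sup_right (hburn _ (by
      rw [← coprime_orderOf_iff, orderOf_pow, Nat.gcd_eq_right (Nat.ordProj_dvd _ _)]
      exact (Nat.coprime_ordCompl hp (orderOf_pos s).ne').symm) (S.pow_mem hsS _))
    have hcop : n₀.Coprime (p ^ a) :=
      Nat.Coprime.pow_right a ((hp.coprime_iff_not_dvd.2 hndvd).symm)
    have hg := Nat.gcd_eq_gcd_ab n₀ (p ^ a)
    rw [hcop.gcd_eq_one] at hg
    rw [← zpow_one s, show (1 : ℤ) = _ from hg, zpow_add, zpow_mul, zpow_mul, zpow_natCast,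
      zpow_natCast]
    exact H.mul_mem (H.zpow_mem (hTn s hs) _) (H.zpow_mem h1 _)
  · rintro _ ⟨s, hs, rfl⟩
    rw [he, ← map_cj, hs.2]
  · rw [he, ← map_mul, show cb M D c * cb M D c = cb M D c from bIdem_mul_self hM hc.1.2]
  · rw [he, hpushφ]
    exact map_cb_ne_zero hker hc hM
  · intro g hg
    obtain ⟨g, rfl⟩ := hπs g
    rw [he, ← map_cj, ← map_mul, mul_cj_eq_zero hM hc (fun h => hg ⟨g, h, rfl⟩), map_zero]
  · -- generation
    rintro _ ⟨a, ha, rfl⟩
    have hx0 : mapL hM (QuotientGroup.mk' D) (el hM a - 1) = 0 := by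
      rw [map_sub, map_one, mapL_el, el,
        show QuotientGroup.mk' D a = 1 from (QuotientGroup.eq_one_iff a).2 ha,
        MonoidAlgebra.one_def, sub_self]
    obtain ⟨P, z, w, hz, hsum⟩ :=
      exists_central_family (hM := hM) hB hDp hKD hdegK hdz (el hM a - 1) hx0
    refine ⟨P.card, fun i => MonoidAlgebra.mapDomainRingHom (Res M) π (rd hM (z (P.equivFin.symm i : Loc hM G × Loc hM G))),
      fun i => MonoidAlgebra.mapDomainRingHom (Res M) π (rd hM (w (P.equivFin.symm i : Loc hM G × Loc hM G))),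
      fun i => ?_, ?_⟩
    · obtain ⟨hz0, hzc⟩ := hz _ (P.equivFin.symm i).2
      refine ⟨?_, fun g _ => ?_⟩
      · rw [hpushφ]
        have hle : D ≤ φ.ker := fun x hx => (hker x).2 hx
        have hfac : φ = (QuotientGroup.lift D φ hle).comp (QuotientGroup.mk' D) :=
          MonoidHom.ext fun x => rfl
        rw [hfac, MonoidAlgebra.mapDomainRingHom_comp, RingHom.comp_apply, ← rd_mapL, hz0, map_zero,
          map_zero]
      · obtain ⟨g, rfl⟩ := hπs g
        have h := congrArg (rd hM) (hzc g)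
        rw [rd_mapL, rd_mapL, map_mul, map_mul, map_mul, map_mul] at h
        have hel : MonoidAlgebra.mapDomainRingHom (Res M) π (rd hM (el hM g)) =
            MonoidAlgebra.single (π g) (1 : Res M) := by
          rw [← rd_mapL, mapL_el]
          simp [rd, el]
        rw [hel] at h
        set y := MonoidAlgebra.mapDomainRingHom (Res M) π
          (rd hM (z (P.equivFin.symm i : Loc hM G × Loc hM G)))
        rw [single_mul_single_eq_cj] at h
        have h2 : cj (π g) y * MonoidAlgebra.single (π g) (1 : Res M) * MonoidAlgebra.single (π g)⁻¹ (1 : Res M) =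
            y * MonoidAlgebra.single (π g) (1 : Res M) * MonoidAlgebra.single (π g)⁻¹ (1 : Res M) := by
          rw [h]
        rw [mul_assoc, mul_assoc, MonoidAlgebra.single_mul_single, mul_inv_cancel, mul_one,
          ← MonoidAlgebra.one_def, mul_one, mul_one] at h2
        exact h2
    · have hsum' := congrArg (rd hM) hsum
      simp only [rd_mapL, map_mul, map_sub, map_one, map_sum, rd_bL] at hsum'
      have hel : MonoidAlgebra.mapDomainRingHom (Res M) π (rd hM (el hM a)) =
          MonoidAlgebra.single (π a) (1 : Res M) := by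
        rw [← rd_mapL, mapL_el]
        simp [rd, el]
      rw [hel] at hsum'
      have heb : e * MonoidAlgebra.mapDomainRingHom (Res M) π (blk M B) = e := by
        have := Fintype.ofFinite G
        rw [he, ← map_mul, ← (fixed_blk B).commute SuppIn.top, blk_mul_cb hM hc]
      have hbe : MonoidAlgebra.mapDomainRingHom (Res M) π (blk M B) * e = e := by
        rw [he, ← map_mul, blk_mul_cb hM hc]
      rw [← Equiv.sum_comp P.equivFin
        (fun i => MonoidAlgebra.mapDomainRingHom (Res M) π (rd hM (z (P.equivFin.symm i : Loc hM G × Loc hM G))) *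
          MonoidAlgebra.mapDomainRingHom (Res M) π (rd hM (w (P.equivFin.symm i : Loc hM G × Loc hM G))))]
      simp only [Equiv.symm_apply_apply]
      rw [Finset.sum_coe_sort P (fun i => MonoidAlgebra.mapDomainRingHom (Res M) π (rd hM (z i)) *
        MonoidAlgebra.mapDomainRingHom (Res M) π (rd hM (w i)))]
      rw [← hsum']
      generalize MonoidAlgebra.single (π a) (1 : Res M) - 1 = X
      rw [show e * (MonoidAlgebra.mapDomainRingHom (Res M) π (blk M B) * X *
        MonoidAlgebra.mapDomainRingHom (Res M) π (blk M B)) * e =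
          (e * MonoidAlgebra.mapDomainRingHom (Res M) π (blk M B)) * X *
            (MonoidAlgebra.mapDomainRingHom (Res M) π (blk M B) * e) by simp only [mul_assoc], heb, hbe]
  · -- conjugation invariance up to nilpotents
    rintro _ ⟨s, hs, rfl⟩ F hFs hFf
    rw [Subgroup.map_map] at hFs hFf
    rw [he, hpushφ]
    exact nilpotent_diff hM hφs hker hD hc hs hFs hFf

/-- In a nilpotent block the characters of height zero share their degree. -/
theorem degree_of_nilpotent (hM : IsPModular p M) {B : Set (IrrCharacter G)} {D : Subgroup G}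
    (hD : IsDefectGroup p M B D) (hnil : IsNilpotentBlock p M B) :
    ∃ d : ℕ, ∀ χ : IrrCharacter G, χ ∈ B → blockHeight p B (χ : G → ℂ) = 0 →
      charDegree (χ : G → ℂ) = d := by
  obtain ⟨χ₀, -, -, Ψ, hΨ⟩ := nilpotent_summary hM hnil hD
  refine ⟨charDegree (χ₀ : G → ℂ), fun χ hχ h0 => ?_⟩
  obtain ⟨η, hη⟩ := Ψ.surjective ⟨χ, hχ⟩
  obtain ⟨h1, h2⟩ := hΨ η
  rw [hη] at h1 h2
  have hp : p.Prime := Fact.out
  have hreg : ¬ p ∣ orderOf (1 : G) := by simpa using hp.one_lt.ne'
  have hdvd := charDegree_dvd_card η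
  obtain ⟨k, hk⟩ := (isPGroup_defectGroup hM hD).exists_card_eq
  obtain ⟨j, -, hj⟩ := (Nat.dvd_prime_pow hp).1 (hk ▸ hdvd)
  change blockHeight p B (χ : G → ℂ) = _ at h1
  rw [h0, hj, hp.factorization_pow, Finsupp.single_eq_same] at h1
  have h3 := h2 1
  rw [pRegularPart_of_regular hreg, pRegularPart_of_regular hreg, hj, ← h1, pow_zero, Nat.cast_one,
    one_mul] at h3
  apply Nat.cast_injective (R := ℂ)
  rw [charDegree_cast, charDegree_cast]
  exact h3

end Cfsg.Agent.EqualDegree
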