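import Cfsg.Agent.Lib.Star.Tau
import Cfsg.Agent.Lib.Star.Trace

/-!
# Traces of elements that are nilpotent modulo `M`; idempotents of rank at most one

* `memI_trL_of_nilpotent`: a character takes a value in the maximal ideal on an element of the
  local group algebra which is nilpotent modulo `M`;
* `trL_mul_eq_zero`, `trL_sandwich_mul`, `trL_sandwich_comm`: consequences of
  `χ j ≤ 1` for an idempotent `j`.
-/

set_option autoImplicit false
set_option linter.unusedSectionVars false

namespace Cfsg.Agent.EqualDegree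

open Cfsg Cfsg.Agent.Blocks Cfsg.Agent.BrauerPairs Cfsg.Agent.Star Polynomial

variable {G : Type*} [Group G] [Finite G] {p : ℕ} {M : Ideal AlgInt} (hM : IsPModular p M)

theorem memI_trL_of_nilpotent {χ : G → ℂ} (hχ : IsCharacter G χ) {x : Loc hM G}
    (hx : IsNilpotent (rd hM x)) : MemLocalIdeal M (trL hM χ x) := by
  classical
  have := Fintype.ofFinite G
  haveI := res_isDomain hM
  haveI := res_nontrivial hM
  set A := Algebra.leftMulMatrix (MonoidAlgebra.basis G (locRing hM)) x with hA
  set P := A.charpoly with hP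
  have haeval : aeval x P = 0 := by
    apply Algebra.leftMulMatrix_injective (MonoidAlgebra.basis G (locRing hM))
    rw [← aeval_algHom_apply, Matrix.aeval_self_charpoly, map_zero]
  have hnil : IsNilpotent (A.map (resHom hM)) := by
    obtain ⟨N, hN⟩ := hx
    refine ⟨N, ?_⟩
    rw [show (A.map (resHom hM)) ^ N = (A ^ N).map (resHom hM) from
      (map_pow (resHom hM).mapMatrix A N).symm, hA, ← map_pow]
    ext i j
    rw [Matrix.map_apply, Algebra.leftMulMatrix_eq_repr_mul, resHom_apply]
    have h1 : rd hM (x ^ N * MonoidAlgebra.basis G (locRing hM) j) = 0 := by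
      rw [map_mul, map_pow, hN, zero_mul]
    have h2 := congrArg (fun z : MonoidAlgebra (Res M) G => z.coeff i) h1
    simp only [coeff_rd, MonoidAlgebra.coeff_zero, Finsupp.zero_apply] at h2
    exact h2
  have hred : P.map (resHom hM) = X ^ Fintype.card G := by
    rw [hP, ← Matrix.charpoly_map]
    exact sub_eq_zero.1 (IsReduced.eq_zero _ (Matrix.isNilpotent_charpoly_sub_pow_of_isNilpotent hnil))
  obtain ⟨n, ρ, rfl⟩ := hχ
  rw [trL, tr_eq_trace]
  set T := ρ.asAlgebraHom (inc hM x) with hT
  have hPT : aeval T (P.map (locRing hM).subtype) = 0 := by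
    rw [hT, aeval_algHom_apply]
    have h := congrArg (inc hM) haeval
    rw [map_zero, aeval_def, Polynomial.hom_eval₂] at h
    rw [aeval_def, eval₂_map]
    have hcomp : (inc hM).comp (algebraMap (locRing hM) (Loc hM G)) =
        (algebraMap ℂ (MonoidAlgebra ℂ G)).comp (locRing hM).subtype :=
      RingHom.ext fun r => by simp [inc]
    rw [← hcomp, h, map_zero]
  rw [LinearMap.trace_eq_matrix_trace ℂ (Module.finBasis ℂ (Fin n → ℂ)),
    Matrix.trace_eq_sum_roots_charpoly, LinearMap.charpoly_toMatrix]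
  refine Multiset.sum_induction _ _ (fun a b => memI_add hM) (memI_zero hM) fun r hr => ?_
  have hev : Module.End.HasEigenvalue T r :=
    (Module.End.hasEigenvalue_iff_isRoot_charpoly T r).mpr (isRoot_of_mem_roots hr)
  obtain ⟨v, hv⟩ := hev.exists_hasEigenvector
  have h0 : (P.map (locRing hM).subtype).eval r = 0 := by
    have h := Module.End.aeval_apply_of_hasEigenvector (p := P.map (locRing hM).subtype) hv
    rw [hPT, LinearMap.zero_apply] at h
    exact (smul_eq_zero.1 h.symm).resolve_right hv.2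
  have hrR : MemLocalRing M r := mem_locRing_of_root hM (Matrix.charpoly_monic A) (by
    simpa [hP, eval_map] using h0)
  have h1 : P.eval (⟨r, hrR⟩ : locRing hM) = 0 := by
    apply Subtype.val_injective
    show ((locRing hM).subtype) (P.eval (⟨r, hrR⟩ : locRing hM)) = 0
    rw [← eval₂_at_apply, ← eval_map]
    exact h0
  have h2 : (P.map (resHom hM)).eval (resHom hM ⟨r, hrR⟩) = 0 := by
    rw [eval_map, eval₂_at_apply, h1, map_zero]
  rw [hred, eval_pow, eval_X] at h2
  exact (res_eq_zero_iff hM hrR).1 ((pow_eq_zero_iff Fintype.card_ne_zero).1 h2)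

section rankOne

variable {V : Type*} [AddCommGroup V] [Module ℂ V] [FiniteDimensional ℂ V]

/-- An idempotent operator of rank at most one. -/
theorem mul_mul_eq_smul (P X : Module.End ℂ V) (hP : P * P = P)
    (htr : LinearMap.trace ℂ V P = 0 ∨ LinearMap.trace ℂ V P = 1) :
    P * X * P = LinearMap.trace ℂ V (P * X) • P := by
  have hproj := (LinearMap.isProj_range_iff_isIdempotentElem P).2 hP
  have hr := hproj.trace
  rcases htr with h | h
  · rw [h] at hr
    have h0 : Module.finrank ℂ (LinearMap.range P) = 0 := by exact_mod_cast hr.symm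
    have : P = 0 := LinearMap.range_eq_bot.1 (Submodule.finrank_eq_zero.1 h0)
    simp [this]
  · rw [h] at hr
    have h1 : Module.finrank ℂ (LinearMap.range P) = 1 := by exact_mod_cast hr.symm
    obtain ⟨v, hv, hspan⟩ := finrank_eq_one_iff'.1 h1
    have hPv : ∀ w, ∃ c : ℂ, c • (v : V) = P w := fun w => by
      obtain ⟨c, hc⟩ := hspan ⟨P w, w, rfl⟩
      exact ⟨c, congrArg Subtype.val hc⟩
    obtain ⟨a, ha⟩ := hPv (X v)
    have key : P * X * P = a • P := by
      refine LinearMap.ext fun w => ?_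
      obtain ⟨c, hc⟩ := hPv w
      show P (X (P w)) = a • P w
      rw [← hc, map_smul, map_smul, ← ha, smul_smul, smul_smul, mul_comm]
    have ht : LinearMap.trace ℂ V (P * X) = a := by
      have e : LinearMap.trace ℂ V (P * X * P) = LinearMap.trace ℂ V (P * X) := by
        rw [LinearMap.trace_mul_comm, ← mul_assoc, hP]
      rw [← e, key, map_smul, h, smul_eq_mul, mul_one]
    rw [key, ht]

end rankOne

/-- `χ` takes the value `0` or `1` at `j`. -/
def Le1 (χ : G → ℂ) (j : Loc hM G) : Prop := trL hM χ j = 0 ∨ trL hM χ j = 1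

theorem exists_rho {χ : G → ℂ} (hχ : IsCharacter G χ) :
    ∃ (n : ℕ) (ρ : Representation ℂ G (Fin n → ℂ)), ∀ x : Loc hM G,
      trL hM χ x = LinearMap.trace ℂ _ (ρ.asAlgebraHom (inc hM x)) := by
  obtain ⟨n, ρ, rfl⟩ := hχ
  exact ⟨n, ρ, fun x => by rw [trL, tr_eq_trace]⟩

theorem trL_sandwich_mul {χ : G → ℂ} (hχ : IsCharacter G χ) {j : Loc hM G} (hj : j * j = j)
    (h1 : Le1 hM χ j) (x a : Loc hM G) :
    trL hM χ (j * x * j * a) = trL hM χ (j * x) * trL hM χ (j * a) := by
  obtain ⟨n, ρ, hρ⟩ := exists_rho hM hχ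
  simp only [Le1, hρ] at h1
  simp only [hρ, map_mul]
  rw [mul_mul_eq_smul _ _ (by rw [← map_mul, ← map_mul, hj]) h1, smul_mul_assoc, map_smul,
    smul_eq_mul]

theorem trL_mul_eq_zero {χ : G → ℂ} (hχ : IsCharacter G χ) {j : Loc hM G} (hj : j * j = j)
    (h0 : trL hM χ j = 0) (x : Loc hM G) : trL hM χ (j * x) = 0 := by
  obtain ⟨n, ρ, hρ⟩ := exists_rho hM hχ
  rw [hρ] at h0 ⊢
  have hP : ρ.asAlgebraHom (inc hM j) * ρ.asAlgebraHom (inc hM j) = ρ.asAlgebraHom (inc hM j) := by
    rw [← map_mul, ← map_mul, hj]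
  have hproj := (LinearMap.isProj_range_iff_isIdempotentElem _).2 hP
  have hr := hproj.trace
  rw [h0] at hr
  have h : Module.finrank ℂ (LinearMap.range (ρ.asAlgebraHom (inc hM j))) = 0 := by
    exact_mod_cast hr.symm
  rw [map_mul, map_mul, LinearMap.range_eq_bot.1 (Submodule.finrank_eq_zero.1 h), zero_mul, map_zero]

theorem trL_sandwich_comm {χ : G → ℂ} (hχ : IsCharacter G χ) {j : Loc hM G} (hj : j * j = j)
    (h1 : Le1 hM χ j) (x y a : Loc hM G) :
    trL hM χ (j * x * j * (j * y * j) * a) = trL hM χ (j * y * j * (j * x * j) * a) := by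
  have e : ∀ u v : Loc hM G, j * u * j * (j * v * j) * a = j * u * j * (v * j * a) := fun u v => by
    simp only [mul_assoc, ← mul_assoc j j, hj]
  rw [e, e, trL_sandwich_mul hM hχ hj h1, trL_sandwich_mul hM hχ hj h1]
  have e' : ∀ v : Loc hM G, trL hM χ (j * (v * j * a)) = trL hM χ (j * v) * trL hM χ (j * a) :=
    fun v => by rw [← mul_assoc, ← mul_assoc, trL_sandwich_mul hM hχ hj h1]
  rw [e', e']
  ring

end Cfsg.Agent.EqualDegree
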