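import Cfsg.Agent.Lib.BrauerPairs.NilpotentFusion
import Cfsg.Agent.Lib.Blocks.Induced

/-!
# Pairs of a block with normal defect group

Let `D` be a normal defect group of `B` and `(D, c)` a pair of `B`.
* `blk_mul_cb`, `mul_cj_eq_zero`: the idempotent of `c` lies in `B`; conjugates outside the
  stabiliser are orthogonal;
* `not_dvd_relIndex`: the inertial index over `D C(D)` is prime to `p`;
* `exists_block_sup`: the block of `D C(D)` with the idempotent of `c` has defect group `D`;
* `isNilpotentBlock_of_regular`: the block is nilpotent when the `p`-regular elements of the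
  stabiliser centralise `D`.
-/

set_option autoImplicit false
set_option linter.unusedSectionVars false

namespace Cfsg.Agent.EqualDegree

open Cfsg Cfsg.Agent.Blocks Cfsg.Agent.BrauerPairs

variable {G : Type*} [Group G] [Finite G] {p : ℕ} [Fact p.Prime] {M : Ideal AlgInt}
  (hM : IsPModular p M) {D : Subgroup G} [D.Normal]
  {B : Set (IrrCharacter G)} {c : Set (IrrCharacter (Subgroup.centralizer (D : Set G)))}
include hM

theorem mem_normalizer (g : G) : g ∈ Subgroup.normalizer (D : Set G) := by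
  rw [Subgroup.normalizer_eq_top]
  exact Subgroup.mem_top g

theorem suppIn_blk (hp : IsPGroup p D) (hB : IsPBlock M B) :
    SuppIn (Subgroup.centralizer (D : Set G)) (blk M B) := by
  have := res_charP hM
  have h := eq_br_of_normal_top hM hp (fixed_blk B) (blk_mul_self hM hB)
  rw [← h]
  exact suppIn_br D _

theorem blk_mul_cb (hc : IsBrauerPairOf p M B D c) : blk M B * cb M D c = cb M D c := by
  have := res_charP hM
  obtain ⟨⟨hp, -⟩, hB, hle⟩ := (isBrauerPairOf_iff hM).1 hc
  rwa [eq_br_of_normal_top hM hp (fixed_blk B) (blk_mul_self hM hB)] at hle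

theorem cj_cb_cases (hc : IsBrauerPairOf p M B D c) (g : G) :
    cj g (cb M D c) = cb M D c ∨ cb M D c * cj g (cb M D c) = 0 := by
  have hK := mem_normalizer_iff_conj (mem_normalizer_centralizer (mem_normalizer hM (D := D) g))
  have hb : IsPBlock M (conjImg (Subgroup.centralizer (D : Set G)) (Subgroup.centralizer (D : Set G))
      g hK c) := isPBlock_conjImg hK hc.1.2
  rw [show cj g (cb M D c) = _ from cj_bIdem hM hK c]
  by_cases h : conjImg (Subgroup.centralizer (D : Set G)) (Subgroup.centralizer (D : Set G))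
      g hK c = c
  · exact Or.inl (by rw [h])
  · exact Or.inr (bIdem_mul_of_ne hM hc.1.2 hb (Ne.symm h))

theorem mul_cj_eq_zero (hc : IsBrauerPairOf p M B D c) {g : G} (hg : g ∉ pairStab M D c) :
    cb M D c * cj g (cb M D c) = 0 :=
  (cj_cb_cases hM hc g).resolve_left fun h => hg ⟨mem_normalizer hM g, h⟩

omit [D.Normal] in
theorem not_dvd_relIndex' (hmax : IsMaximalBrauerPair p M B D c) :
    ¬ p ∣ (D ⊔ Subgroup.centralizer (D : Set G)).relIndex (pairStab M D c) := by
  obtain ⟨F, hF, heq, -⟩ := exists_block_pairStab hM hmax.1.1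
  have h := not_dvd_local_index hM hmax.1.1.2 (pairStab_le_normalizer D c)
    (centralizer_le_pairStab hM D c) hF heq (defect_pairStab_top hM hmax hF heq)
  rwa [inf_eq_left.2 (le_pairStab D c),
    ← Subgroup.subgroupOf_sup (le_pairStab D c) (centralizer_le_pairStab hM D c)] at h

theorem exists_block_sup (hD : IsDefectGroup p M B D) (hc : IsBrauerPairOf p M B D c) :
    ∃ F : Set (IrrCharacter (D ⊔ Subgroup.centralizer (D : Set G) : Subgroup G)),
      IsPBlock M F ∧ bIdem M (D ⊔ Subgroup.centralizer (D : Set G)) F = cb M D c ∧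
      IsDefectGroup p M F (D.subgroupOf (D ⊔ Subgroup.centralizer (D : Set G))) := by
  have := res_charP hM
  have := Fintype.ofFinite G
  set H := D ⊔ Subgroup.centralizer (D : Set G) with hH
  have hp := hc.1.1
  have hHT : H ≤ pairStab M D c := sup_le (le_pairStab D c) (centralizer_le_pairStab hM D c)
  obtain ⟨F, hF, heq, -⟩ := exists_block_of_stable hM hp le_sup_left
    (fun x _ => mem_normalizer hM x) le_sup_right hc.1.2
    ((fixed_pairStab D c).mono hHT)
  refine ⟨F, hF, heq, ?_⟩
  obtain ⟨R, hR⟩ := Blocks.exists_isDefectGroup (p := p) hM hF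
  have hle : D.subgroupOf H ≤ R :=
    normal_le_defectGroup hM (hp.comap_of_injective _ H.subtype_injective) hF hR
  have hRp : IsPGroup p (R.map H.subtype) := (isPGroup_defectGroup hM hR).map _
  have hbr := sub_br_defectGroup_ne_zero hM hR
  rw [heq, ← blk_mul_cb hM hc,
    br_mul hRp ((fixed_blk B).mono le_top)
      ((fixed_pairStab D c).mono ((Subgroup.map_subtype_le R).trans hHT))] at hbr
  have hcard : Nat.card (R.map H.subtype) ≤ Nat.card D :=
    card_le_of_br_ne_zero hM hc.2.1 hRp (fun h0 => hbr (by rw [h0, zero_mul])) hD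
  rw [Subgroup.card_map_of_injective H.subtype_injective] at hcard
  have hDc : Nat.card (D.subgroupOf H) = Nat.card D :=
    Nat.card_congr (Subgroup.subgroupOfEquivOfLe le_sup_left).toEquiv
  rwa [← Subgroup.eq_of_le_of_card_ge hle (hDc ▸ hcard)] at hR

/-- The orbit of the idempotent of `c` under a subgroup covers every idempotent meeting it. -/
theorem orbit_cases (hc : IsBrauerPairOf p M B D c) {K : Subgroup G}
    (hCK : Subgroup.centralizer (D : Set G) ≤ K) {b : Set (IrrCharacter K)} (hb : IsPBlock M b)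
    {g : G} (hne : cj g (cb M D c) * bIdem M K b ≠ 0) {y : G}
    (hy : cj y (cb M D c) * bIdem M K b ≠ 0) :
    ∃ k ∈ K, cj y (cb M D c) = cj (k * g) (cb M D c) := by
  classical
  have := res_charP hM
  have := Fintype.ofFinite G
  let O : Finset (MonoidAlgebra (Res M) G) :=
    (Finset.univ.filter (· ∈ K)).image fun k => cj (k * g) (cb M D c)
  have horth : ∀ a b : G, cj a (cb M D c) ≠ cj b (cb M D c) →
      cj a (cb M D c) * cj b (cb M D c) = 0 := fun a b hab => by
    have h := congrArg (cj a) ((cj_cb_cases hM hc (a⁻¹ * b)).resolve_left fun h => hab (by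
      have h2 := congrArg (cj a) h
      rw [← cj_mul, mul_inv_cancel_left] at h2
      exact h2.symm))
    rwa [map_mul, map_zero, ← cj_mul, mul_inv_cancel_left] at h
  have hidem : ∀ a : G, cj a (cb M D c) * cj a (cb M D c) = cj a (cb M D c) := fun a => by
    rw [← map_mul, show cb M D c * cb M D c = cb M D c from bIdem_mul_self hM hc.1.2]
  set S := ∑ o ∈ O, o with hS
  have hSS : S * S = S := by
    rw [hS, Finset.sum_mul]
    refine Finset.sum_congr rfl fun o ho => ?_
    obtain ⟨k, -, rfl⟩ := Finset.mem_image.1 ho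
    rw [Finset.mul_sum, Finset.sum_eq_single _ (fun o' ho' hne' => ?_) (fun h => absurd ho h), hidem]
    obtain ⟨k', -, rfl⟩ := Finset.mem_image.1 ho'
    exact horth _ _ (Ne.symm hne')
  have hsupp : SuppIn K S := SuppIn.sum _ fun o ho => by
    obtain ⟨k, -, rfl⟩ := Finset.mem_image.1 ho
    exact ((bIdem_central _ c).1.cj_mem (K := Subgroup.centralizer (D : Set G)) fun x hx =>
      (Subgroup.mem_normalizer_iff.1
        (mem_normalizer_centralizer (mem_normalizer hM (D := D) (k * g))) x).1 hx).mono hCK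
  have hfix : Fixed K S := fun u hu => by
    rw [hS, map_sum]
    refine Finset.sum_bij' (fun o _ => cj u o) (fun o _ => cj u⁻¹ o) ?_ ?_
      (fun o _ => cj_inv_cj u o) (fun o _ => cj_cj_inv u o) (fun o _ => rfl)
    · intro o ho
      obtain ⟨k, hk, rfl⟩ := Finset.mem_image.1 ho
      refine Finset.mem_image.2 ⟨u * k, Finset.mem_filter.2 ⟨Finset.mem_univ _,
        K.mul_mem hu (Finset.mem_filter.1 hk).2⟩, ?_⟩
      rw [← cj_mul, mul_assoc]
    · intro o ho
      obtain ⟨k, hk, rfl⟩ := Finset.mem_image.1 ho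
      refine Finset.mem_image.2 ⟨u⁻¹ * k, Finset.mem_filter.2 ⟨Finset.mem_univ _,
        K.mul_mem (K.inv_mem hu) (Finset.mem_filter.1 hk).2⟩, ?_⟩
      rw [← cj_mul, mul_assoc]
  have hgO : cj g (cb M D c) ∈ O :=
    Finset.mem_image.2 ⟨1, Finset.mem_filter.2 ⟨Finset.mem_univ _, K.one_mem⟩, by rw [one_mul]⟩
  have hSb : S * bIdem M K b = bIdem M K b := by
    refine (mul_bIdem_cases hM ⟨hsupp, hfix⟩ hSS hb).resolve_right fun h0 => hne ?_
    have h1 : cj g (cb M D c) * S = cj g (cb M D c) := by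
      rw [hS, Finset.mul_sum, Finset.sum_eq_single _ (fun o ho hne' => ?_) (fun h => absurd hgO h),
        hidem]
      obtain ⟨k', -, rfl⟩ := Finset.mem_image.1 ho
      exact horth _ _ (Ne.symm hne')
    rw [← h1, mul_assoc, h0, mul_zero]
  by_contra hno
  push Not at hno
  refine hy ?_
  rw [← hSb, ← mul_assoc, hS, Finset.mul_sum, Finset.sum_eq_zero, zero_mul]
  intro o ho
  obtain ⟨k, hk, rfl⟩ := Finset.mem_image.1 ho
  exact horth _ _ (hno k (Finset.mem_filter.1 hk).2)

/-- The blocks of `C(D)` in `B` are conjugate to `c`. -/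
theorem exists_cj_mul_ne_zero (hc : IsBrauerPairOf p M B D c) {a : MonoidAlgebra (Res M) G}
    (ha : a ≠ 0) (hBa : blk M B * a = a) : ∃ g : G, cj g (cb M D c) * a ≠ 0 := by
  classical
  have := res_charP hM
  have := Fintype.ofFinite G
  by_contra hno
  push Not at hno
  let O : Finset (MonoidAlgebra (Res M) G) := Finset.univ.image fun g => cj g (cb M D c)
  set S := ∑ o ∈ O, o with hS
  have hfix : Fixed (⊤ : Subgroup G) S := fun u _ => by
    rw [hS, map_sum]
    refine Finset.sum_bij' (fun o _ => cj u o) (fun o _ => cj u⁻¹ o) ?_ ?_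
      (fun o _ => cj_inv_cj u o) (fun o _ => cj_cj_inv u o) (fun o _ => rfl)
    · intro o ho
      obtain ⟨k, -, rfl⟩ := Finset.mem_image.1 ho
      exact Finset.mem_image.2 ⟨u * k, Finset.mem_univ _, cj_mul u k _⟩
    · intro o ho
      obtain ⟨k, -, rfl⟩ := Finset.mem_image.1 ho
      exact Finset.mem_image.2 ⟨u⁻¹ * k, Finset.mem_univ _, cj_mul u⁻¹ k _⟩
  have hSS : S * S = S := by
    rw [hS, Finset.sum_mul]
    refine Finset.sum_congr rfl fun o ho => ?_
    obtain ⟨k, -, rfl⟩ := Finset.mem_image.1 ho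
    rw [Finset.mul_sum, Finset.sum_eq_single _ (fun o' ho' hne' => ?_) (fun h => absurd ho h),
      ← map_mul, show cb M D c * cb M D c = cb M D c from bIdem_mul_self hM hc.1.2]
    obtain ⟨k', -, rfl⟩ := Finset.mem_image.1 ho'
    have h := (cj_cb_cases hM hc (k⁻¹ * k')).resolve_left fun h => hne' (by
      have h2 := congrArg (cj k) h
      rwa [← cj_mul, mul_inv_cancel_left] at h2)
    have h3 := congrArg (cj k) h
    rwa [map_mul, map_zero, ← cj_mul, mul_inv_cancel_left] at h3
  obtain ⟨ξ, hξ⟩ := isPBlock_nonempty hM hc.2.1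
  rcases mul_blk_cases hM hfix hSS hc.2.1 hξ with ⟨-, h⟩ | ⟨-, h⟩
  · refine ha ?_
    rw [← hBa, ← h, mul_assoc, hBa, hS, Finset.sum_mul]
    refine Finset.sum_eq_zero fun o ho => ?_
    obtain ⟨k, -, rfl⟩ := Finset.mem_image.1 ho
    exact hno k
  · refine bIdem_ne_zero hM hc.1.2 ?_
    show cb M D c = 0
    have h1 : cb M D c * S = cb M D c := by
      rw [hS, Finset.mul_sum, Finset.sum_eq_single (cb M D c)]
      · exact bIdem_mul_self hM hc.1.2
      · intro o ho hne'
        obtain ⟨k, -, rfl⟩ := Finset.mem_image.1 ho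
        exact (cj_cb_cases hM hc k).resolve_left hne'
      · exact fun h' => absurd (show cb M D c ∈ O from Finset.mem_image.2 ⟨1, Finset.mem_univ _, cj_one _⟩) h'
    have h2 : cb M D c * (S * blk M B) = cb M D c := by
      rw [(fixed_blk B).commute (SuppIn.top) |>.symm, ← mul_assoc,
        ← ((fixed_blk B).commute (SuppIn.top (a := cb M D c))), blk_mul_cb hM hc, h1]
    rw [← h2, h, mul_zero]

/-- Nilpotency from the maximal pair. -/
theorem isNilpotentBlock_of_regular (hD : IsDefectGroup p M B D) (hc : IsBrauerPairOf p M B D c)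
    (hreg : ∀ t ∈ pairStab M D c, IsPRegular p t → t ∈ Subgroup.centralizer (D : Set G)) :
    IsNilpotentBlock p M B := by
  have := res_charP hM
  have := Fintype.ofFinite G
  have hp := hc.1.1
  have hB := hc.2.1
  refine ⟨hB, fun Q f hQf x hxN hxst hxreg => ?_⟩
  obtain ⟨⟨hQ, hf⟩, -, hle⟩ := (isBrauerPairOf_iff hM).1 hQf
  have hQD : Q ≤ D := by
    obtain ⟨D', hD', hQD'⟩ := exists_defectGroup_ge hM hB hQ fun h0 =>
      bIdem_ne_zero hM hf (by rw [show bIdem M _ f = cb M Q f from rfl, ← hle, h0, zero_mul])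
    obtain ⟨y, hy⟩ := isDefectGroup_conj_eq hM hB hD hD'
    intro q hq
    have h := hQD' hq
    rw [← hy, mem_conjSub] at h
    simpa [mul_assoc] using Subgroup.Normal.conj_mem ‹D.Normal› _ h y
  have hCC : Subgroup.centralizer (D : Set G) ≤ Subgroup.centralizer (Q : Set G) :=
    Subgroup.centralizer_le hQD
  rw [br_eq_self ((suppIn_blk hM hp hB).mono hCC)] at hle
  obtain ⟨g, hg⟩ := exists_cj_mul_ne_zero hM hc (bIdem_ne_zero hM hf) hle
  have hxf : cj x (cb M Q f) = cb M Q f :=
    (stabilizesBlock_iff hM hf (mem_normalizer_centralizer hxN)).1 hxst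
  have hxg : cj (x * g) (cb M D c) * cb M Q f ≠ 0 := by
    intro h0
    refine hg ((cj x).injective ?_)
    rw [map_mul, map_zero, ← cj_mul, hxf, h0]
  obtain ⟨k, hk, hkg⟩ := orbit_cases hM hc hCC hf hg hxg
  set y := g⁻¹ * (k⁻¹ * x) * g with hy
  have hyT : y ∈ pairStab M D c := by
    refine ⟨mem_normalizer hM y, ?_⟩
    have h := congrArg (cj (k * g)⁻¹) hkg
    rw [cj_inv_cj, ← cj_mul] at h
    rw [hy]
    convert h using 2
    congr 1
    group
  set a := (orderOf y).factorization p
  have hyreg : IsPRegular p (y ^ (p ^ a)) := by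
    rw [← coprime_orderOf_iff, orderOf_pow, Nat.gcd_eq_right (Nat.ordProj_dvd _ _)]
    exact (Nat.coprime_ordCompl (Fact.out : p.Prime) (orderOf_pos y).ne').symm
  have hC : (k⁻¹ * x) ^ (p ^ a) ∈ Subgroup.centralizer (Q : Set G) := by
    refine hCC ?_
    have h := (Subgroup.mem_normalizer_iff.1
      (mem_normalizer_centralizer (mem_normalizer hM (D := D) g)) _).1
        (hreg _ (Subgroup.pow_mem _ hyT _) hyreg)
    rw [hy, show g⁻¹ * (k⁻¹ * x) * g = g⁻¹ * (k⁻¹ * x) * g⁻¹⁻¹ by rw [inv_inv], conj_pow] at h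
    simpa [mul_assoc] using h
  have hxC : ∀ i : ℕ, (k⁻¹ * x) ^ i * (x ^ i)⁻¹ ∈ Subgroup.centralizer (Q : Set G) := by
    intro i
    induction i with
    | zero => simp
    | succ i ih =>
      have hn := mem_normalizer_centralizer hxN
      have e : (k⁻¹ * x) ^ (i + 1) * (x ^ (i + 1))⁻¹ =
          k⁻¹ * (x * ((k⁻¹ * x) ^ i * (x ^ i)⁻¹) * x⁻¹) := by
        rw [pow_succ', pow_succ' x]
        group
      rw [e]
      exact Subgroup.mul_mem _ (Subgroup.inv_mem _ hk) ((Subgroup.mem_normalizer_iff.1 hn _).1 ih)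
  have hxp : x ^ (p ^ a) ∈ Subgroup.centralizer (Q : Set G) := by
    have h := Subgroup.mul_mem _ (Subgroup.inv_mem _ (hxC (p ^ a))) hC
    simpa [mul_assoc] using h
  have hcop : (p ^ a).Coprime (orderOf x) :=
    Nat.Coprime.pow_left a ((Fact.out : p.Prime).coprime_iff_not_dvd.2 hxreg)
  obtain ⟨m, hm⟩ := exists_pow_eq_self_of_coprime hcop
  rw [← hm]
  exact Subgroup.pow_mem _ hxp m

end Cfsg.Agent.EqualDegree
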